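import Mathlib
import Groth.Prelude.Def_LocRes
import Groth.Agent.H23FunFld.Approx
import Groth.Agent.H23Geom.Separating

/-!
Differentials read through an expansion at a place.
-/

set_option autoImplicit false
set_option linter.unusedSectionVars false

namespace Groth.Agent.H23Diff

open WithZero Groth.Agent.H23FunFld

variable {k K : Type*} [Field k] [Field K] [Algebra k K]

theorem exists_ratio (hK : FunFld.IsFunctionField k K) (hg : FunFld.IsGeometric k K) {x : K}
    (hx : KaehlerDifferential.D k K x ≠ 0) (v : K) :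
    ∃ c : K, KaehlerDifferential.D k K v = c • KaehlerDifferential.D k K x := by
  obtain ⟨c, hc⟩ := (finrank_eq_one_iff_of_nonzero' _ hx).1 (Groth.Agent.H23Geom.finrank_kaehler hK hg)
    (KaehlerDifferential.D k K v)
  exact ⟨c, hc.symm⟩

theorem ratio_ne_zero {x v c : K} (hv : KaehlerDifferential.D k K v ≠ 0)
    (h : KaehlerDifferential.D k K v = c • KaehlerDifferential.D k K x) : c ≠ 0 := fun h0 =>
  hv (by rw [h, h0, zero_smul])

variable {F : Type*} [Field F] [Algebra k F]

/-- Linear relations between differentials pass to expansions. -/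
theorem D_exp_eq (Φ : K →ₐ[k] LaurentSeries F) {x v c : K}
    (h : KaehlerDifferential.D k K v = c • KaehlerDifferential.D k K x) :
    LocRes.D F (Φ v) = Φ c * LocRes.D F (Φ x) := by
  let _i := Φ.toRingHom.toAlgebra
  have _t : IsScalarTower k K (LaurentSeries F) := LocRes.isScalarTower_exp Φ
  have h1 := congrArg (LocRes.dExp Φ).liftKaehlerDifferential h
  rw [map_smul, Derivation.liftKaehlerDifferential_comp_D, Derivation.liftKaehlerDifferential_comp_D] at h1
  exact h1

theorem vDiff_eq_mul (Φ : K →ₐ[k] LaurentSeries F) {x v c : K} (u : K)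
    (h : KaehlerDifferential.D k K v = c • KaehlerDifferential.D k K x) :
    LocRes.vDiff Φ u v = Valued.v (Φ (u * c)) * LocRes.vDiff Φ 1 x := by
  simp only [LocRes.vDiff, D_exp_eq Φ h, map_mul, map_one, one_mul, mul_assoc]

variable {P : FunFld.Place k K} {Φ : K →ₐ[k] LaurentSeries F} (hΦ : LocRes.IsExpansionAt P.1 Φ)
include hΦ

omit hΦ in
theorem val_D_le {f : LaurentSeries F} (hf : Valued.v f ≤ (1 : WithZero (Multiplicative ℤ))) :
    Valued.v (LocRes.D F f) ≤ (1 : WithZero (Multiplicative ℤ)) := by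
  obtain ⟨G, rfl⟩ := (LaurentSeries.val_le_one_iff_eq_coe F _).1 hf
  rw [LocRes.D_coe]
  exact (LaurentSeries.val_le_one_iff_eq_coe F _).2 ⟨_, rfl⟩

/-- The derivative of the expansion of a local parameter is a unit. -/
theorem val_D_param {t : K} (ht : P.1 t = exp (-1)) :
    Valued.v (LocRes.D F (Φ t)) = (1 : WithZero (Multiplicative ℤ)) := by
  have h1 : Valued.v (Φ t) = exp (-1 : ℤ) := (hΦ.1 t).trans ht
  refine le_antisymm (val_D_le (h1.trans_le (by rw [← exp_zero, exp_le_exp]; omega))) (not_lt.1 fun hlt => ?_)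
  have h2 : Valued.v (Φ t) ≤ exp (-2 : ℤ) := by
    rw [LaurentSeries.valuation_le_iff_coeff_lt_eq_zero]
    intro n hn
    rcases lt_or_eq_of_le (show n ≤ 1 by omega) with h | rfl
    · exact LaurentSeries.coeff_zero_of_lt_valuation F (D := 1) h1.le h
    · have h3 := LaurentSeries.coeff_zero_of_lt_valuation F (n := 0) (D := 1) (f := LocRes.D F (Φ t))
        (by
          rw [← exp_log (ne_of_gt (lt_of_le_of_lt zero_le zero_lt_one))] at hlt
          rcases eq_or_ne (Valued.v (LocRes.D F (Φ t))) (0 : WithZero (Multiplicative ℤ)) with h0 | h0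
          · rw [h0]; exact zero_le
          · rw [← exp_log h0] at hlt ⊢
            rw [WithZero.log_one, exp_lt_exp] at hlt
            rw [exp_le_exp]
            omega) zero_lt_one
      rw [LocRes.D_coeff] at h3
      simpa using h3
  rw [h1, exp_le_exp] at h2
  omega

theorem D_ne_zero_param {t : K} (ht : P.1 t = exp (-1)) : KaehlerDifferential.D k K t ≠ 0 := by
  intro h0
  have h := D_exp_eq Φ (x := t) (v := t) (c := 0) (by rw [h0, smul_zero])
  have h1 := val_D_param hΦ ht
  rw [h, map_zero, zero_mul, map_zero] at h1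
  exact zero_ne_one h1

theorem vDiff_eq {t v c : K} (ht : P.1 t = exp (-1)) (u : K)
    (h : KaehlerDifferential.D k K v = c • KaehlerDifferential.D k K t) :
    LocRes.vDiff Φ u v = P.1 (u * c) := by
  rw [vDiff_eq_mul Φ u h, hΦ.1]
  simp only [LocRes.vDiff, map_one, one_mul, val_D_param hΦ ht, mul_one]

theorem ordDiff_eq {t v c : K} (ht : P.1 t = exp (-1)) (u : K)
    (h : KaehlerDifferential.D k K v = c • KaehlerDifferential.D k K t) :
    LocRes.ordDiff Φ u v = P.ord (u * c) := by
  rw [LocRes.ordDiff, vDiff_eq hΦ ht u h]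
  rfl

theorem D_ne_zero_of_vDiff {u v : K} (h : LocRes.vDiff Φ u v ≠ 0) :
    KaehlerDifferential.D k K v ≠ 0 := by
  intro h0
  refine h ?_
  rw [vDiff_eq_mul Φ u (x := v) (v := v) (c := 0) (by rw [h0, smul_zero]), mul_zero, map_zero, map_zero,
    zero_mul]

/-- The derivative by a local parameter keeps the valuation ring. -/
theorem exists_integral_ratio (hK : FunFld.IsFunctionField k K) (hg : FunFld.IsGeometric k K)
    {t : K} (ht : P.1 t = exp (-1)) {a : K} (ha : P.1 a ≤ 1) :
    ∃ c : K, P.1 c ≤ 1 ∧ KaehlerDifferential.D k K a = c • KaehlerDifferential.D k K t := by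
  obtain ⟨c, hc⟩ := exists_ratio hK hg (D_ne_zero_param hΦ ht) a
  refine ⟨c, ?_, hc⟩
  have h1 := vDiff_eq hΦ ht 1 hc
  rw [one_mul] at h1
  rw [← h1, LocRes.vDiff, map_one, one_mul]
  exact val_D_le ((hΦ.1 a).trans_le ha)

end Groth.Agent.H23Diff
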