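import Mathlib
import Groth.Agent.H23Diff.Expansion
import Groth.Agent.H23Ext.Over
import Groth.Agent.H23Geom.Unram

/-!
The trace dual of the integral closure at a place of residue degree one.
-/

set_option autoImplicit false
set_option linter.unusedSectionVars false
set_option linter.style.haveILetI false

namespace Groth.Agent.H23Diff

open WithZero Polynomial Groth.Agent.H23FunFld Groth.Agent.H23Ext

variable {k K K' : Type*} [Field k] [Field K] [Field K'] [Algebra k K] [Algebra K K'] [Algebra k K']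
  [IsScalarTower k K K'] [FiniteDimensional K K'] [Algebra.IsSeparable K K']

theorem le_exp_neg_one' {a : WithZero (Multiplicative ℤ)} (h : a < 1) : a ≤ exp (-1 : ℤ) := by
  simpa using pow_le_exp_of_lt_one h 1

theorem exp_le_one_iff {n : ℤ} : (exp n : WithZero (Multiplicative ℤ)) ≤ 1 ↔ n ≤ 0 := by
  rw [← exp_zero, exp_le_exp]

variable (hK : FunFld.IsFunctionField k K) {P : FunFld.Place k K}

theorem algebraMap_O (a : P.O) : algebraMap P.O K' a = algebraMap K K' (a : K) :=
  IsScalarTower.algebraMap_apply P.O K K' a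

theorem val_algebraMap_le {Q : FunFld.Place k K'} (h : FunFld.IsOver Q P) (a : P.O) :
    Q.1 (algebraMap P.O K' a) ≤ 1 := by
  rw [algebraMap_O]; exact (le_one_iff_of_isOver h _).2 a.2

/-- Integral elements are integral at every place above. -/
theorem val_le_one_of_isIntegral {Q : FunFld.Place k K'} (h : FunFld.IsOver Q P) {z : K'}
    (hz : IsIntegral P.O z) : Q.1 z ≤ 1 := by
  obtain ⟨p, hm, hp⟩ := hz
  by_contra hgt
  rw [not_le] at hgt
  rw [eval₂_eq_sum_range, Finset.sum_range_succ, hm.coeff_natDegree, map_one, one_mul] at hp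
  have hlt : Q.1 (∑ i ∈ Finset.range p.natDegree, algebraMap P.O K' (p.coeff i) * z ^ i) <
      Q.1 z ^ p.natDegree := by
    refine Q.1.map_sum_lt' (pow_pos (zero_lt_one.trans hgt) _) fun i hi => ?_
    rw [map_mul, map_pow]
    exact (mul_le_of_le_one_left zero_le (val_algebraMap_le h _)).trans_lt
      (pow_lt_pow_right₀ hgt (Finset.mem_range.1 hi))
  rw [eq_neg_of_add_eq_zero_left hp, Valuation.map_neg, map_pow] at hlt
  exact lt_irrefl _ hlt

theorem val_mem_adjoin_le {Q : FunFld.Place k K'} (h : FunFld.IsOver Q P) {s : K'} (hs : Q.1 s ≤ 1)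
    {z : K'} (hz : z ∈ Algebra.adjoin P.O ({s} : Set K')) : Q.1 z ≤ 1 := by
  induction hz using Algebra.adjoin_induction with
  | mem x hx => rw [Set.mem_singleton_iff.1 hx]; exact hs
  | algebraMap a => exact val_algebraMap_le h a
  | add x y _ _ hx hy => exact (Q.1.map_add x y).trans (max_le hx hy)
  | mul x y _ _ hx hy => rw [map_mul]; exact mul_le_one' hx hy

include hK

/-- An element with prescribed orders above `P`. -/
theorem exists_s (Q : FunFld.Place k K') :
    ∃ s : K', Q.1 s = exp (-1) ∧ ∀ Q' : FunFld.Place k K', FunFld.IsOver Q' P → Q' ≠ Q → Q'.1 s = 1 := by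
  classical
  obtain ⟨t, -, ht⟩ := exists_val_eq Q (-1)
  obtain ⟨s, hs⟩ := approximation (insert Q (finite_isOver hK P).toFinset)
    (fun Q' => if Q' = Q then t else 1) (fun Q' => if Q' = Q then -2 else -1)
  refine ⟨s, ?_, fun Q' hQ' hne => ?_⟩
  · have h := hs Q (Finset.mem_insert_self _ _)
    rw [if_pos rfl, if_pos rfl] at h
    rw [show s = t + (s - t) by ring, Q.1.map_add_eq_of_lt_left (h.trans_lt (by rw [ht, exp_lt_exp]; omega)), ht]
  · have h := hs Q' (Finset.mem_insert_of_mem ((finite_isOver hK P).mem_toFinset.2 hQ'))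
    rw [if_neg hne, if_neg hne] at h
    rw [show s = 1 + (s - 1) by ring, Q'.1.map_add_eq_of_lt_left (h.trans_lt (by
      rw [map_one, ← exp_zero, exp_lt_exp]; omega)), map_one]

variable {Q : FunFld.Place k K'} (hQ : FunFld.IsOver Q P)
  (hres : ∀ z : K', Q.1 z ≤ 1 → ∃ a : K, P.1 a ≤ 1 ∧ Q.1 (z - algebraMap K K' a) < 1)
  {s : K'} (hs : Q.1 s = exp (-1))
  (hs' : ∀ Q' : FunFld.Place k K', FunFld.IsOver Q' P → Q' ≠ Q → Q'.1 s = 1)

include hQ hs hs'

omit hQ in
theorem val_s_le {Q' : FunFld.Place k K'} (h : FunFld.IsOver Q' P) : Q'.1 s ≤ 1 := by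
  rcases eq_or_ne Q' Q with rfl | hne
  · rw [hs, ← exp_zero, exp_le_exp]; omega
  · exact (hs' Q' h hne).le

theorem isIntegral_s : IsIntegral P.O s :=
  Groth.Agent.H23Geom.isIntegral_of_forall_over hK.1 P fun _ h => val_s_le hK hs hs' h

theorem s_ne_zero : s ≠ 0 := fun h => exp_ne_zero (by rw [← hs, h, map_zero])

include hres

/-- Approximation at `Q` by polynomials in `s`. -/
theorem exists_adjoin_approx {z : K'} (hz : Q.1 z ≤ 1) (N : ℕ) :
    ∃ a ∈ Algebra.adjoin P.O ({s} : Set K'), Q.1 (z - a) ≤ exp (-(N : ℤ)) := by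
  induction N with
  | zero => exact ⟨0, zero_mem _, by simpa using hz⟩
  | succ N ih =>
    obtain ⟨a, ha, hza⟩ := ih
    have hb : Q.1 ((z - a) / s ^ N) ≤ 1 := by
      rw [map_div₀, map_pow, hs, ← exp_nsmul, div_le_one₀ (zero_lt_iff.2 exp_ne_zero)]
      simpa using hza
    obtain ⟨c, hc, hzc⟩ := hres _ hb
    refine ⟨a + algebraMap P.O K' ⟨c, hc⟩ * s ^ N, add_mem ha (mul_mem (Subalgebra.algebraMap_mem _ _)
      (pow_mem (Algebra.self_mem_adjoin_singleton _ _) N)), ?_⟩
    rw [algebraMap_O, show z - (a + algebraMap K K' c * s ^ N) =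
      ((z - a) / s ^ N - algebraMap K K' c) * s ^ N by
      rw [sub_mul, div_mul_cancel₀ _ (pow_ne_zero _ (s_ne_zero hK hQ hs hs'))]; ring, map_mul, map_pow, hs]
    refine (mul_le_mul' (le_exp_neg_one' hzc) le_rfl).trans ?_
    rw [← exp_nsmul, ← exp_add, exp_le_exp]
    simp

/-- `s` generates the extension. -/
theorem adjoin_eq_top : IntermediateField.adjoin K ({s} : Set K') = ⊤ := by
  classical
  set L := IntermediateField.adjoin K ({s} : Set K') with hL
  by_contra hne
  haveI : Algebra.IsSeparable L K' := Algebra.isSeparable_tower_top_of_isSeparable K L K'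
  haveI : FiniteDimensional L K' := Module.Finite.of_restrictScalars_finite K L K'
  haveI : IsScalarTower k L K' := IsScalarTower.of_algebraMap_eq fun c => (IsScalarTower.algebraMap_apply k K K' c).trans
    (congrArg (algebraMap L K') (IsScalarTower.algebraMap_apply k K L c)).symm
  have hrank : 1 < Module.finrank L K' := by
    have h1 : Module.finrank L K' ≠ 1 := fun h => hne (IntermediateField.finrank_eq_one_iff_eq_top.1 h)
    have h2 : 0 < Module.finrank L K' := Module.finrank_pos
    omega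
  obtain ⟨y, hy, hy0⟩ : ∃ y : K', Algebra.trace L K' y = 0 ∧ y ≠ 0 := by
    by_contra hno
    simp only [not_exists, not_and, not_not] at hno
    have := LinearMap.finrank_le_finrank_of_injective (f := Algebra.trace L K')
      (LinearMap.ker_eq_bot.1 ((Submodule.eq_bot_iff _).2 fun y hy => hno y hy))
    rw [Module.finrank_self] at this
    omega
  obtain ⟨w, hw⟩ : ∃ w : K', Algebra.trace L K' (y * w) ≠ 0 := by
    by_contra hno
    simp only [not_exists, not_not] at hno
    exact hy0 ((traceForm_nondegenerate L K').1 y fun w => by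
      rw [Algebra.traceForm_apply]; exact hno w)
  -- scale `w` into the valuation ring
  obtain ⟨M, hM⟩ : ∃ M : ℕ, Q.1 (s ^ M * w) ≤ 1 := by
    refine ⟨(-(Q.ord w)).toNat, ?_⟩
    rcases eq_or_ne w 0 with rfl | hw0
    · simp
    rw [map_mul, map_pow, hs, val_eq_exp Q hw0, ← exp_nsmul, ← exp_add, ← exp_zero, exp_le_exp, nsmul_eq_mul]
    omega
  let sL : L := ⟨s, IntermediateField.mem_adjoin_simple_self K s⟩
  have hs0 := s_ne_zero hK hQ hs hs'
  have hsL0 : sL ≠ 0 := fun h => hs0 (congrArg Subtype.val h)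
  set c := Algebra.trace L K' (y * (s ^ M * w))
  have hc : c ≠ 0 := by
    have : y * (s ^ M * w) = (sL ^ M) • (y * w) := by
      rw [Algebra.smul_def, map_pow]; change _ = s ^ M * (y * w); ring
    simp only [c, this, map_smul, smul_eq_mul]
    exact mul_ne_zero (pow_ne_zero _ hsL0) hw
  obtain ⟨P', hQP'⟩ := exists_below (K := L) (isFF_extension (K := K) (K' := L) hK.1) Q
  have hP'P : ∀ a : K, P.1 a ≤ 1 → P'.1 (algebraMap K L a) ≤ 1 := fun a ha => by
    rw [← le_one_iff_of_isOver hQP', ← IsScalarTower.algebraMap_apply]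
    exact (le_one_iff_of_isOver hQ a).2 ha
  obtain ⟨e', he'⟩ := hQP'
  have hsP' : P'.1 sL = exp (-1) ∧ e' = 1 := by
    have h1 : Q.1 (algebraMap L K' sL) = exp (-1) := hs
    rw [he', val_eq_exp P' hsL0, ← exp_nsmul, exp_inj, nsmul_eq_mul] at h1
    have h2 := IsOverWith.pos he'
    have h3 : (e' : ℤ) = 1 := Int.eq_one_of_mul_eq_one_right (Int.natCast_nonneg e') (b := P'.ord sL) (by linarith)
    rw [h3, one_mul, neg_inj] at h1
    exact ⟨by rw [val_eq_exp P' hsL0, h1], by exact_mod_cast h3⟩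
  obtain ⟨hsP', rfl⟩ := hsP'
  -- the places above `P'` are only `Q`
  have honly : ∀ Q' : FunFld.Place k K', FunFld.IsOver Q' P' → Q' = Q := by
    intro Q' hQ'
    by_contra hne'
    obtain ⟨R, hR⟩ := exists_below hK.1 Q'
    have hRP : P = R := place_eq_of_le fun a ha => by
      rw [← le_one_iff_of_isOver hR, IsScalarTower.algebraMap_apply K L K']
      exact (le_one_iff_of_isOver hQ' _).2 (hP'P a ha)
    have h1 := hs' Q' (hRP ▸ hR) hne'
    obtain ⟨e, he⟩ := hQ'
    have h2 : Q'.1 (algebraMap L K' sL) = 1 := h1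
    rw [he, hsP', pow_eq_one_iff_of_nonneg zero_le (IsOverWith.pos he).ne', ← exp_zero, exp_inj] at h2
    omega
  letI : Algebra P'.O K' := ((algebraMap L K').comp P'.O.subtype).toAlgebra
  haveI : IsScalarTower P'.O L K' := IsScalarTower.of_algebraMap_eq fun _ => rfl
  have hint : ∀ u : K', Q.1 u ≤ 1 → P'.1 (Algebra.trace L K' u) ≤ 1 := fun u hu => by
    have hi : IsIntegral P'.O u := Groth.Agent.H23Geom.isIntegral_of_forall_over
      (isFF_extension (K := K) (K' := L) hK.1) P' fun Q' hQ' => honly Q' hQ' ▸ hu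
    obtain ⟨r, hr⟩ := IsIntegrallyClosed.isIntegral_iff.1 (Algebra.isIntegral_trace (L := L) (F := K') hi)
    rw [← hr]; exact r.2
  -- approximate
  obtain ⟨B, hB⟩ : ∃ B : ℕ, Q.1 (s ^ B * y) ≤ 1 := by
    refine ⟨(-(Q.ord y)).toNat, ?_⟩
    rw [map_mul, map_pow, hs, val_eq_exp Q hy0, ← exp_nsmul, ← exp_add, ← exp_zero, exp_le_exp, nsmul_eq_mul]
    omega
  set N : ℕ := B + (P'.ord c).toNat + 1
  obtain ⟨a, ha, hwa⟩ := exists_adjoin_approx hK hQ hres hs hs' hM N
  obtain ⟨aL, rfl⟩ : ∃ aL : L, algebraMap L K' aL = a := by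
    refine ⟨⟨a, ?_⟩, rfl⟩
    clear hwa
    induction ha using Algebra.adjoin_induction with
    | mem x hx => rw [Set.mem_singleton_iff.1 hx]; exact IntermediateField.mem_adjoin_simple_self K s
    | algebraMap r => rw [algebraMap_O]; exact L.algebraMap_mem _
    | add x y _ _ hx hy => exact add_mem hx hy
    | mul x y _ _ hx hy => exact mul_mem hx hy
  set u := y * (s ^ M * w - algebraMap L K' aL) / s ^ (N - B)
  have hu : Q.1 u ≤ 1 := by
    rw [map_div₀, map_mul, map_pow, hs, ← exp_nsmul, div_le_one₀ (zero_lt_iff.2 exp_ne_zero)]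
    rw [map_mul, map_pow, hs, ← exp_nsmul] at hB
    rcases eq_or_ne (Q.1 y) 0 with h0 | h0
    · rw [h0, zero_mul]; exact zero_le
    rw [← exp_log h0, ← exp_add, exp_le_one_iff, nsmul_eq_mul] at hB
    rw [← exp_log h0]
    refine (mul_le_mul' le_rfl hwa).trans ?_
    rw [← exp_add, exp_le_exp, nsmul_eq_mul]
    omega
  have htr : c = sL ^ (N - B) * Algebra.trace L K' u := by
    rw [← smul_eq_mul, ← map_smul]
    have : (sL ^ (N - B)) • u = y * (s ^ M * w) - aL • y := by
      rw [Algebra.smul_def, Algebra.smul_def, map_pow]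
      change s ^ (N - B) * _ = _
      simp only [u]
      field_simp
    rw [this, map_sub, map_smul, hy, smul_zero, sub_zero]
  have h1 : P'.1 c ≤ exp (-((N - B : ℕ) : ℤ)) := by
    rw [htr, map_mul, map_pow, hsP', ← exp_nsmul, nsmul_eq_mul]
    refine (mul_le_of_le_one_right zero_le (hint u hu)).trans ?_
    rw [exp_le_exp]; omega
  rw [val_le_exp_iff P' hc] at h1
  omega

/-- The derivative of the minimal polynomial is nonzero. -/
theorem fp_ne_zero : aeval s (derivative (minpoly K s)) ≠ 0 :=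
  (Algebra.IsSeparable.isSeparable K s).aeval_derivative_ne_zero (minpoly.aeval _ _)

theorem adjoinTop' : Algebra.adjoin K ({s} : Set K') = ⊤ := by
  rw [← IntermediateField.adjoin_simple_toSubalgebra_of_isAlgebraic (Algebra.IsAlgebraic.isAlgebraic s),
    adjoin_eq_top hK hQ hres hs hs', IntermediateField.top_toSubalgebra]

theorem fp_mul_mem_of_dual {y : K'}
    (hy : ∀ a ∈ Algebra.adjoin P.O ({s} : Set K'), P.1 (Algebra.trace K K' (y * a)) ≤ 1) :
    aeval s (derivative (minpoly K s)) * y ∈ Algebra.adjoin P.O ({s} : Set K') := by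
  have h := traceForm_dualSubmodule_adjoin P.O K (adjoinTop' hK hQ hres hs hs') (isIntegral_s hK hQ hs hs')
  have hmem : y ∈ (Algebra.traceForm K K').dualSubmodule
      (Subalgebra.toSubmodule (Algebra.adjoin P.O ({s} : Set K'))) := by
    rw [LinearMap.BilinForm.mem_dualSubmodule]
    intro a ha
    exact Submodule.mem_one.2 ⟨⟨_, hy a ha⟩, rfl⟩
  rw [h, Submodule.mem_smul_pointwise_iff_exists] at hmem
  obtain ⟨b, hb, rfl⟩ := hmem
  rw [smul_eq_mul, ← mul_assoc, mul_inv_cancel₀ (fp_ne_zero hK hQ hres hs hs'), one_mul]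
  exact hb

theorem trace_dual_le {a b : K'} (ha : a ∈ Algebra.adjoin P.O ({s} : Set K'))
    (hb : b ∈ Algebra.adjoin P.O ({s} : Set K')) :
    P.1 (Algebra.trace K K' (a / aeval s (derivative (minpoly K s)) * b)) ≤ 1 := by
  have h := traceForm_dualSubmodule_adjoin P.O K (adjoinTop' hK hQ hres hs hs') (isIntegral_s hK hQ hs hs')
  have hmem : a / aeval s (derivative (minpoly K s)) ∈ (Algebra.traceForm K K').dualSubmodule
      (Subalgebra.toSubmodule (Algebra.adjoin P.O ({s} : Set K'))) := by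
    rw [h, Submodule.mem_smul_pointwise_iff_exists]
    exact ⟨a, ha, by rw [smul_eq_mul, div_eq_inv_mul]⟩
  rw [LinearMap.BilinForm.mem_dualSubmodule] at hmem
  obtain ⟨r, hr⟩ := Submodule.mem_one.1 (hmem b hb)
  rw [← Algebra.traceForm_apply, ← hr]
  exact r.2

theorem trace_integral {z : K'} (hz : IsIntegral P.O z) : P.1 (Algebra.trace K K' z) ≤ 1 := by
  obtain ⟨r, hr⟩ := IsIntegrallyClosed.isIntegral_iff.1 (Algebra.isIntegral_trace (L := K) (F := K') hz)
  rw [← hr]; exact r.2

theorem fp_mul_mem {z : K'} (hz : ∀ Q' : FunFld.Place k K', FunFld.IsOver Q' P → Q'.1 z ≤ 1) :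
    aeval s (derivative (minpoly K s)) * z ∈ Algebra.adjoin P.O ({s} : Set K') := by
  refine fp_mul_mem_of_dual hK hQ hres hs hs' fun a ha => ?_
  refine trace_integral hK hQ hres hs hs' (Groth.Agent.H23Geom.isIntegral_of_forall_over hK.1 P fun Q' hQ' => ?_)
  rw [map_mul]
  exact mul_le_one' (hz Q' hQ') (val_mem_adjoin_le hQ' (val_s_le hK hs hs' hQ') ha)

/-- A polynomial in `s` which is a unit at `Q` and vanishes at the other places above `P`. -/
theorem exists_cut : ∃ b ∈ Algebra.adjoin P.O ({s} : Set K'), Q.1 b = 1 ∧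
    ∀ Q' : FunFld.Place k K', FunFld.IsOver Q' P → Q' ≠ Q → Q'.1 b < 1 := by
  classical
  have hk : ∀ c : k, algebraMap k K' c ∈ Algebra.adjoin P.O ({s} : Set K') := fun c => by
    rw [IsScalarTower.algebraMap_apply k K K', ← algebraMap_O (P := P) ⟨_, P.2.1 c⟩]
    exact Subalgebra.algebraMap_mem _ _
  have hex : ∀ Q' : FunFld.Place k K', FunFld.IsOver Q' P → Q' ≠ Q → ∃ g : k[X],
      Q.1 (aeval s g) = 1 ∧ Q'.1 (aeval s g) < 1 := by
    intro Q' hQ' hne
    haveI : @Module.Finite k (IsLocalRing.ResidueField Q'.O) _ _ Algebra.toModule :=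
      Module.finite_of_finrank_pos (deg_pos' (isFF_extension (K' := K') hK.1) Q')
    let z : Q'.O := ⟨s, (hs' Q' hQ' hne).le⟩
    set r := IsLocalRing.residue Q'.O z
    have hr : r ≠ 0 := by
      rw [Ne, IsLocalRing.residue_eq_zero_iff, IsLocalRing.mem_maximalIdeal, mem_nonunits_iff, not_not,
        Groth.Agent.H23Geom.isUnit_O_iff]
      exact hs' Q' hQ' hne
    have hint : IsIntegral k r := Algebra.IsIntegral.isIntegral r
    refine ⟨minpoly k r, ?_, ?_⟩
    · have h0 := minpoly.coeff_zero_ne_zero hint hr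
      have e : aeval s (minpoly k r) = algebraMap k K' ((minpoly k r).coeff 0) + s * aeval s (minpoly k r).divX := by
        conv_lhs => rw [← X_mul_divX_add (minpoly k r)]
        rw [map_add, map_mul, aeval_X, aeval_C, add_comm]
      have hle : Q.1 (s * aeval s (minpoly k r).divX) < 1 := by
        rw [map_mul, hs]
        refine (mul_le_of_le_one_right zero_le ?_).trans_lt (by rw [← exp_zero, exp_lt_exp]; omega)
        have hA : aeval s (minpoly k r).divX ∈ Algebra.adjoin P.O ({s} : Set K') := by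
          rw [aeval_eq_sum_range]
          refine Subalgebra.sum_mem _ fun i _ => ?_
          rw [Algebra.smul_def]
          exact mul_mem (hk _) (pow_mem (Algebra.self_mem_adjoin_singleton _ _) i)
        exact val_mem_adjoin_le hQ (val_s_le hK hs hs' hQ) hA
      rw [e, Q.1.map_add_eq_of_lt_left (by rwa [val_const Q h0]), val_const Q h0]
    · have h1 : IsLocalRing.residue Q'.O (aeval z (minpoly k r)) = 0 := by
        have h2 := minpoly.aeval k r
        rw [← h2]
        exact (aeval_algHom_apply (show Q'.O →ₐ[k] IsLocalRing.ResidueField Q'.O from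
          { toRingHom := IsLocalRing.residue Q'.O, commutes' := fun _ => rfl }) z _).symm
      rw [IsLocalRing.residue_eq_zero_iff, IsLocalRing.mem_maximalIdeal, mem_nonunits_iff,
        Groth.Agent.H23Geom.isUnit_O_iff] at h1
      have e : ((aeval z (minpoly k r) : Q'.O) : K') = aeval s (minpoly k r) :=
        (aeval_algHom_apply (show Q'.O →ₐ[k] K' from
          { toRingHom := Q'.O.subtype, commutes' := fun _ => rfl }) z _).symm
      rw [e] at h1
      exact lt_of_le_of_ne (e ▸ (aeval z (minpoly k r)).2) h1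
  choose g hg hg' using hex
  let T := ((finite_isOver (K' := K') hK P).toFinset.erase Q).attach
  have hT : ∀ x : {x // x ∈ (finite_isOver (K' := K') hK P).toFinset.erase Q},
      FunFld.IsOver (x : FunFld.Place k K') P ∧ (x : FunFld.Place k K') ≠ Q := fun x =>
    ⟨(finite_isOver hK P).mem_toFinset.1 (Finset.mem_erase.1 x.2).2, (Finset.mem_erase.1 x.2).1⟩
  have hmem : ∀ x, aeval s (g _ (hT x).1 (hT x).2) ∈ Algebra.adjoin P.O ({s} : Set K') := fun x => by
    rw [aeval_eq_sum_range]
    refine Subalgebra.sum_mem _ fun i _ => ?_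
    rw [Algebra.smul_def]
    exact mul_mem (hk _) (pow_mem (Algebra.self_mem_adjoin_singleton _ _) i)
  refine ⟨∏ x ∈ T, aeval s (g _ (hT x).1 (hT x).2), Subalgebra.prod_mem _ fun x _ => hmem x, ?_, ?_⟩
  · rw [map_prod]; exact Finset.prod_eq_one fun x _ => hg _ _ _
  · intro Q' hQ' hne
    let x : {x // x ∈ (finite_isOver (K' := K') hK P).toFinset.erase Q} :=
      ⟨Q', Finset.mem_erase.2 ⟨hne, (finite_isOver hK P).mem_toFinset.2 hQ'⟩⟩
    rw [map_prod, ← Finset.mul_prod_erase _ _ (Finset.mem_attach _ x)]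
    refine (mul_le_of_le_one_right zero_le (Finset.prod_le_one (fun _ _ => zero_le) fun y _ =>
      val_mem_adjoin_le hQ' (val_s_le hK hs hs' hQ') (hmem y))).trans_lt ?_
    exact hg' Q' (hT x).1 (hT x).2

/-- A multiplier into the ring generated by `s`. -/
theorem exists_conductor_elt : ∃ b ∈ Algebra.adjoin P.O ({s} : Set K'), Q.1 b = 1 ∧
    ∀ z : K', (∀ Q' : FunFld.Place k K', FunFld.IsOver Q' P → Q'.1 z ≤ 1) →
      b * z ∈ Algebra.adjoin P.O ({s} : Set K') := by
  classical
  set fp := aeval s (derivative (minpoly K s))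
  have hfp : fp ≠ 0 := fp_ne_zero hK hQ hres hs hs'
  obtain ⟨b₀, hb₀, hb₀1, hb₀'⟩ := exists_cut hK hQ hres hs hs'
  obtain ⟨N, hN⟩ : ∃ N : ℕ, ∀ Q' : FunFld.Place k K', FunFld.IsOver Q' P → exp (-(N : ℤ)) ≤ Q'.1 fp := by
    refine ⟨(finite_isOver hK P).toFinset.sup fun Q' => (Q'.ord fp).toNat, fun Q' hQ' => ?_⟩
    rw [val_eq_exp Q' hfp, exp_le_exp, neg_le_neg_iff]
    refine (Int.self_le_toNat _).trans ?_
    exact_mod_cast Finset.le_sup (f := fun Q' : FunFld.Place k K' => (Q'.ord fp).toNat)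
      ((finite_isOver hK P).mem_toFinset.2 hQ')
  refine ⟨b₀ ^ N, pow_mem hb₀ N, by rw [map_pow, hb₀1, one_pow], fun z hz => ?_⟩
  obtain ⟨a, ha, hza⟩ := exists_adjoin_approx hK hQ hres hs hs' (hz Q hQ) N
  have hb1 : ∀ Q' : FunFld.Place k K', FunFld.IsOver Q' P → Q'.1 b₀ ≤ 1 := fun Q' hQ' =>
    val_mem_adjoin_le hQ' (val_s_le hK hs hs' hQ') hb₀
  have hint : ∀ Q' : FunFld.Place k K', FunFld.IsOver Q' P → Q'.1 (b₀ ^ N * (z - a) / fp) ≤ 1 := by
    intro Q' hQ'
    rw [map_div₀, div_le_one₀ (zero_lt_iff.2 (val_ne_zero Q' hfp)), map_mul, map_pow]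
    refine le_trans ?_ (hN Q' hQ')
    rcases eq_or_ne Q' Q with rfl | hne
    · exact (mul_le_of_le_one_left zero_le (pow_le_one₀ zero_le (hb1 Q' hQ'))).trans hza
    · refine (mul_le_of_le_one_right zero_le ?_).trans (pow_le_exp_of_lt_one (hb₀' Q' hQ' hne) N)
      exact (Q'.1.map_sub _ _).trans (max_le (hz Q' hQ') (val_mem_adjoin_le hQ' (val_s_le hK hs hs' hQ') ha))
  have h1 := fp_mul_mem hK hQ hres hs hs' hint
  rw [mul_div_cancel₀ _ hfp] at h1
  have h2 := add_mem h1 (mul_mem (pow_mem hb₀ N) ha)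
  rwa [← mul_add, sub_add_cancel] at h2

/-- The valuation ring is the localisation. -/
theorem exists_fraction {z : K'} (hz : Q.1 z ≤ 1) :
    ∃ a ∈ Algebra.adjoin P.O ({s} : Set K'), ∃ b ∈ Algebra.adjoin P.O ({s} : Set K'),
      Q.1 b = 1 ∧ z * b = a := by
  classical
  obtain ⟨b, hb, hb1, hbz⟩ := exists_conductor_elt hK hQ hres hs hs'
  rcases eq_or_ne z 0 with rfl | hz0
  · exact ⟨0, zero_mem _, b, hb, hb1, zero_mul b⟩
  obtain ⟨w, hw⟩ := approximation (insert Q (finite_isOver (K' := K') hK P).toFinset)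
    (fun Q' => if Q' = Q then (1 : K') else 0)
    (fun Q' => if Q' = Q then -1 else min (Q'.ord z) 0)
  have hwQ : Q.1 w = 1 := by
    have h := hw Q (Finset.mem_insert_self _ _)
    rw [if_pos rfl, if_pos rfl] at h
    rw [show w = 1 + (w - 1) by ring, Q.1.map_add_eq_of_lt_left (h.trans_lt (by
      rw [map_one, ← exp_zero, exp_lt_exp]; omega)), map_one]
  have hwint : ∀ Q' : FunFld.Place k K', FunFld.IsOver Q' P → Q'.1 w ≤ 1 ∧ Q'.1 (z * w) ≤ 1 := by
    intro Q' hQ'
    rcases eq_or_ne Q' Q with rfl | hne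
    · exact ⟨hwQ.le, by rw [map_mul, hwQ, mul_one]; exact hz⟩
    · have h := hw Q' (Finset.mem_insert_of_mem ((finite_isOver hK P).mem_toFinset.2 hQ'))
      rw [if_neg hne, if_neg hne, sub_zero] at h
      refine ⟨h.trans (by rw [← exp_zero, exp_le_exp]; omega), ?_⟩
      rw [map_mul, val_eq_exp Q' hz0]
      refine (mul_le_mul' le_rfl h).trans ?_
      rw [← exp_add, ← exp_zero, exp_le_exp]; omega
  refine ⟨_, hbz (z * w) (fun Q' h => (hwint Q' h).2), _, hbz w (fun Q' h => (hwint Q' h).1), ?_, by ring⟩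
  rw [map_mul, hb1, hwQ, one_mul]

/-- Elements of the trace dual are bounded. -/
theorem dual_le {y : K'} (hy : ∀ z : K', IsIntegral P.O z → P.1 (Algebra.trace K K' (y * z)) ≤ 1) :
    Q.1 y ≤ exp (Q.ord (aeval s (derivative (minpoly K s)))) := by
  have h := fp_mul_mem_of_dual hK hQ hres hs hs' (y := y) fun a ha => hy a
    (Groth.Agent.H23Geom.isIntegral_of_forall_over hK.1 P fun Q' hQ' =>
      val_mem_adjoin_le hQ' (val_s_le hK hs hs' hQ') ha)
  have h1 := val_mem_adjoin_le hQ (val_s_le hK hs hs' hQ) h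
  rw [map_mul, val_eq_exp Q (fp_ne_zero hK hQ hres hs hs')] at h1
  rcases eq_or_ne (Q.1 y) 0 with h0 | h0
  · rw [h0]; exact zero_le
  rw [← exp_log h0, ← exp_add, exp_le_one_iff] at h1
  rw [← exp_log h0, exp_le_exp]; omega

/-- The bound is attained. -/
theorem exists_dual_eq : ∃ y : K', (∀ z : K', (∀ Q' : FunFld.Place k K', FunFld.IsOver Q' P → Q'.1 z ≤ 1) →
      P.1 (Algebra.trace K K' (y * z)) ≤ 1) ∧
    Q.1 y = exp (Q.ord (aeval s (derivative (minpoly K s)))) := by
  obtain ⟨b, hb, hb1, hbz⟩ := exists_conductor_elt hK hQ hres hs hs'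
  refine ⟨b / aeval s (derivative (minpoly K s)), fun z hz => ?_, ?_⟩
  · rw [show b / aeval s (derivative (minpoly K s)) * z =
      b * z / aeval s (derivative (minpoly K s)) * 1 by ring]
    exact trace_dual_le hK hQ hres hs hs' (hbz z hz) (one_mem _)
  · rw [map_div₀, hb1, val_eq_exp Q (fp_ne_zero hK hQ hres hs hs'), exp_neg, one_div, inv_inv]

/-- The order of `f'(s)` is that of the relative differential. -/
theorem ord_fp {t : K} (ht : P.1 t = exp (-1))
    (hder : ∀ a : K, P.1 a ≤ 1 → ∃ c : K, P.1 c ≤ 1 ∧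
      KaehlerDifferential.D k K a = c • KaehlerDifferential.D k K t)
    (hDt : KaehlerDifferential.D k K t ≠ 0) (hDs : KaehlerDifferential.D k K' s ≠ 0) {γ : K'}
    (hγ : KaehlerDifferential.D k K' (algebraMap K K' t) = γ • KaehlerDifferential.D k K' s) :
    Q.1 (aeval s (derivative (minpoly K s))) = Q.1 γ := by
  classical
  have hint := isIntegral_s hK hQ hs hs'
  set f := minpoly P.O s
  have hmap : minpoly K s = f.map (algebraMap P.O K) :=
    minpoly.isIntegrallyClosed_eq_field_fractions' K hint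
  obtain ⟨e, he⟩ := hQ
  have hs0 : s ≠ 0 := s_ne_zero hK ⟨e, he⟩ hs hs'
  have ht0 : t ≠ 0 := fun h => exp_ne_zero (by rw [← ht, h, map_zero])
  set u := algebraMap K K' t / s ^ e
  have hu : Q.1 u = 1 := by
    rw [map_div₀, he t, map_pow, ht, hs, div_self (pow_ne_zero _ exp_ne_zero)]
  obtain ⟨_, ha, _, hb, hb1, hab⟩ := exists_fraction hK ⟨e, he⟩ hres hs hs' hu.le
  rw [Algebra.adjoin_singleton_eq_range_aeval] at ha hb
  obtain ⟨pa, rfl⟩ := ha
  obtain ⟨pb, rfl⟩ := hb
  have hPo : ∀ q : P.O[X], Q.1 (aeval s q) ≤ 1 := fun q =>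
    val_mem_adjoin_le ⟨e, he⟩ (val_s_le hK hs hs' ⟨e, he⟩) (by
      rw [Algebra.adjoin_singleton_eq_range_aeval]; exact ⟨q, rfl⟩)
  have hsplit : ∀ q : P.O[X], aeval s q = algebraMap K K' (q.coeff 0 : K) + s * aeval s q.divX := fun q => by
    conv_lhs => rw [← X_mul_divX_add q]
    rw [map_add, map_mul, aeval_X, aeval_C, add_comm, algebraMap_O]
  have hpb0 : P.1 (pb.coeff 0 : K) = 1 := by
    refine le_antisymm (pb.coeff 0).2 (not_lt.1 fun hlt => ?_)
    have h1 : Q.1 (aeval s pb) < 1 := by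
      rw [hsplit pb]
      refine (Q.1.map_add _ _).trans_lt (max_lt ?_ ?_)
      · rw [he]; exact pow_lt_one₀ zero_le hlt (IsOverWith.pos he).ne'
      · rw [map_mul, hs]
        exact (mul_le_of_le_one_right zero_le (hPo _)).trans_lt (by rw [← exp_zero, exp_lt_exp]; omega)
    exact lt_irrefl _ (hb1.symm.trans_lt h1)
  obtain ⟨q, hq⟩ : f ∣ C (⟨t, ht.trans_le (by rw [← exp_zero, exp_le_exp]; omega)⟩ : P.O) * pb - X ^ e * pa := by
    refine minpoly.isIntegrallyClosed_dvd hint ?_
    rw [map_sub, map_mul, map_mul, aeval_C, map_pow, aeval_X, algebraMap_O, sub_eq_zero]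
    change u * aeval s pb = aeval s pa at hab
    rw [← hab]
    simp only [u]
    field_simp
  have ha0 : P.1 (f.coeff 0 : K) = exp (-1) := by
    have h0 := congrArg (fun p => ((p.coeff 0 : P.O) : K)) hq
    simp only [coeff_sub, mul_coeff_zero, coeff_C_zero, coeff_X_pow,
      if_neg (IsOverWith.pos he).ne] at h0
    rw [zero_mul, sub_zero] at h0
    push_cast at h0
    have h1 := congrArg P.1 h0
    rw [map_mul, map_mul, ht, hpb0, mul_one] at h1
    have hlt : P.1 (f.coeff 0 : K) < 1 := by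
      refine lt_of_le_of_ne (f.coeff 0).2 fun h1' => ?_
      have h2 : aeval s f = 0 := minpoly.aeval _ _
      rw [hsplit f, add_eq_zero_iff_eq_neg] at h2
      have h3 := congrArg Q.1 h2
      rw [Valuation.map_neg, he, h1', one_pow, map_mul, hs] at h3
      have h4 : exp (-1 : ℤ) * Q.1 (aeval s f.divX) < 1 :=
        (mul_le_of_le_one_right zero_le (hPo _)).trans_lt (by rw [← exp_zero, exp_lt_exp]; omega)
      exact h4.ne h3.symm
    refine le_antisymm (le_exp_neg_one' hlt) (h1.le.trans (mul_le_of_le_one_right zero_le (q.coeff 0).2))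
  -- differentiate
  choose c hc hcD using fun a : P.O => hder (a : K) a.2
  have hc0 : P.1 (c (f.coeff 0)) = 1 := by
    obtain ⟨v, hv, hv'⟩ : ∃ v : K, P.1 v = 1 ∧ (f.coeff 0 : K) = t * v := by
      refine ⟨(f.coeff 0 : K) / t, ?_, (mul_div_cancel₀ _ ht0).symm⟩
      rw [map_div₀, ha0, ht, div_self exp_ne_zero]
    obtain ⟨cv, hcv, hcvD⟩ := hder v hv.le
    have h1 := hcD (f.coeff 0)
    rw [hv', Derivation.leibniz, hcvD, smul_smul, ← add_smul] at h1
    have h2 : t * cv + v = c (f.coeff 0) :=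
      sub_eq_zero.1 ((smul_eq_zero.1 (by rw [sub_smul, h1, sub_self])).resolve_right hDt)
    rw [← h2, P.1.map_add_eq_of_lt_right, hv]
    rw [hv, map_mul, ht]
    exact (mul_le_of_le_one_right zero_le hcv).trans_lt (by rw [← exp_zero, exp_lt_exp]; omega)
  set h := ∑ i ∈ Finset.range (f.natDegree + 1), algebraMap K K' (c (f.coeff i)) * s ^ i
  have hh : Q.1 h = 1 := by
    simp only [h]
    rw [Finset.sum_range_succ', pow_zero, mul_one]
    have h1 : Q.1 (algebraMap K K' (c (f.coeff 0))) = 1 := by rw [he, hc0, one_pow]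
    rw [Q.1.map_add_eq_of_lt_right, h1]
    rw [h1]
    refine Q.1.map_sum_lt' zero_lt_one fun i _ => ?_
    rw [map_mul, map_pow, hs]
    refine (mul_le_of_le_one_left zero_le ((le_one_iff_of_isOver ⟨e, he⟩ _).2 (hc _))).trans_lt ?_
    exact pow_lt_one₀ zero_le (by rw [← exp_zero, exp_lt_exp]; omega) (Nat.succ_ne_zero _)
  have hrel : aeval s (derivative (minpoly K s)) + h * γ = 0 := by
    have h0 : KaehlerDifferential.D k K' (aeval s f) = 0 := by rw [minpoly.aeval, map_zero]
    have hsum : KaehlerDifferential.D k K' (aeval s f) =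
        (aeval s (derivative (minpoly K s)) + h * γ) • KaehlerDifferential.D k K' s := by
      have hfp : aeval s (derivative (minpoly K s)) =
          ∑ i ∈ Finset.range (f.natDegree + 1), algebraMap K K' (f.coeff i : K) * ((i : K') * s ^ (i - 1)) := by
        rw [hmap, derivative_map, aeval_map_algebraMap]
        conv_lhs => rw [f.as_sum_range_C_mul_X_pow, derivative_sum, map_sum]
        refine Finset.sum_congr rfl fun i _ => ?_
        rw [derivative_C_mul_X_pow, map_mul, aeval_C, map_pow, aeval_X, map_mul, map_natCast, algebraMap_O]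
        ring
      rw [hfp, aeval_eq_sum_range, map_sum]
      simp only [h]
      rw [Finset.sum_mul, ← Finset.sum_add_distrib, Finset.sum_smul]
      refine Finset.sum_congr rfl fun i _ => ?_
      have hDc : KaehlerDifferential.D k K' (algebraMap K K' (f.coeff i : K)) =
          (algebraMap K K' (c (f.coeff i)) * γ) • KaehlerDifferential.D k K' s := by
        rw [← KaehlerDifferential.map_D k k K K', hcD, map_smul, KaehlerDifferential.map_D,
          ← algebraMap_smul K', hγ, smul_smul]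
      rw [Algebra.smul_def, algebraMap_O, Derivation.leibniz, Derivation.leibniz_pow, hDc,
        ← Nat.cast_smul_eq_nsmul K', smul_smul, smul_smul, smul_smul, ← add_smul]
      congr 1
      ring
    rw [h0, eq_comm, smul_eq_zero] at hsum
    exact hsum.resolve_right hDs
  rw [eq_neg_of_add_eq_zero_left hrel, Valuation.map_neg, map_mul, hh, one_mul]

end Groth.Agent.H23Diff
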