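import Mathlib
import Groth.Agent.H23Diff.Local

/-!
Different exponents read through expansions.
-/

set_option autoImplicit false
set_option linter.unusedSectionVars false
set_option linter.style.haveILetI false

namespace Groth.Agent.H23Diff

open WithZero Polynomial Groth.Agent.H23FunFld Groth.Agent.H23Ext

variable {k K K' : Type*} [Field k] [Field K] [Field K'] [Algebra k K] [Algebra K K'] [Algebra k K']
  [IsScalarTower k K K']

/-- Relations between differentials go up. -/
theorem D_algebraMap {x v c : K} (h : KaehlerDifferential.D k K v = c • KaehlerDifferential.D k K x) :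
    KaehlerDifferential.D k K' (algebraMap K K' v) =
      algebraMap K K' c • KaehlerDifferential.D k K' (algebraMap K K' x) := by
  rw [← KaehlerDifferential.map_D k k K K', h, map_smul, KaehlerDifferential.map_D, algebraMap_smul]

theorem exists_ratio_sep [Algebra.IsSeparable K K'] (hK : FunFld.IsFunctionField k K)
    (hg : FunFld.IsGeometric k K) {x : K} (hx : KaehlerDifferential.D k K x ≠ 0) (v : K') :
    ∃ c : K', KaehlerDifferential.D k K' v = c • KaehlerDifferential.D k K' (algebraMap K K' x) := by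
  set S := Submodule.span K' {KaehlerDifferential.D k K' (algebraMap K K' x)}
  have hsep := Algebra.IsSeparable.isSeparable K v
  have h1 := Groth.Agent.H23Geom.D_eval_sub_mem (k := k) S ((minpoly K v).map (algebraMap K K')) v fun i => by
    obtain ⟨c, hc⟩ := exists_ratio hK hg hx ((minpoly K v).coeff i)
    rw [coeff_map]
    exact Submodule.mem_span_singleton.2 ⟨_, (D_algebraMap hc).symm⟩
  rw [eval_map, ← aeval_def, minpoly.aeval, map_zero, zero_sub, derivative_map, eval_map, ← aeval_def,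
    neg_mem_iff] at h1
  obtain ⟨c, hc⟩ := Submodule.mem_span_singleton.1 h1
  exact ⟨(aeval v (derivative (minpoly K v)))⁻¹ * c, by
    rw [mul_smul, hc, inv_smul_smul₀ (hsep.aeval_derivative_ne_zero (minpoly.aeval _ _))]⟩

variable {F F' : Type*} [Field F] [Algebra k F] [Field F'] [Algebra k F']
  {P : FunFld.Place k K} {Q : FunFld.Place k K'}
  {φ : K →ₐ[k] LaurentSeries F} {ψ : K' →ₐ[k] LaurentSeries F'}

/-- The different exponent is the order of the differential of a parameter below. -/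
theorem diffExp_eq_ordDiff (hK : FunFld.IsFunctionField k K) (hg : FunFld.IsGeometric k K)
    (hφ : LocRes.IsExpansionAt P.1 φ) (hψ : LocRes.IsExpansionAt Q.1 ψ) {e : ℕ}
    (he : FunFld.IsOverWith Q P e) {x : K} (hx : LocRes.vDiff φ 1 x ≠ 0)
    (hx' : LocRes.vDiff ψ 1 (algebraMap K K' x) ≠ 0) {t : K} (ht : P.1 t = exp (-1)) :
    LocRes.vDiff ψ 1 (algebraMap K K' t) ≠ 0 ∧
      LocRes.diffExp φ ψ e x = LocRes.ordDiff ψ 1 (algebraMap K K' t) := by
  obtain ⟨c, hc⟩ := exists_ratio hK hg (D_ne_zero_param hφ ht) x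
  have h1 := vDiff_eq_mul ψ 1 (D_algebraMap (K' := K') hc)
  rw [h1] at hx'
  obtain ⟨hc', ht'⟩ := mul_ne_zero_iff.1 hx'
  refine ⟨ht', ?_⟩
  rw [LocRes.diffExp, ordDiff_eq hφ ht 1 hc, one_mul]
  unfold LocRes.ordDiff
  rw [h1, WithZero.log_mul hc' ht', one_mul, hψ.1]
  have h2 : -log (Q.1 (algebraMap K K' c)) = e * P.ord c := IsOverWith.ord_eq he c
  omega

variable [FiniteDimensional K K'] [Algebra.IsSeparable K K']

theorem hres_of_surjective [P.1.HasExtension Q.1]
    (hf : Function.Surjective (algebraMap (IsLocalRing.ResidueField P.O) (IsLocalRing.ResidueField Q.O)))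
    {z : K'} (hz : Q.1 z ≤ 1) : ∃ a : K, P.1 a ≤ 1 ∧ Q.1 (z - algebraMap K K' a) < 1 := by
  obtain ⟨r, hr⟩ := hf (IsLocalRing.residue Q.O ⟨z, hz⟩)
  obtain ⟨a, rfl⟩ := IsLocalRing.residue_surjective r
  refine ⟨a, a.2, ?_⟩
  rw [Valuation.HasExtension.algebraMap_residue_eq_residue_algebraMap, eq_comm, ← sub_eq_zero, ← map_sub,
    IsLocalRing.residue_eq_zero_iff, IsLocalRing.mem_maximalIdeal, mem_nonunits_iff,
    Groth.Agent.H23Geom.isUnit_O_iff] at hr
  have hm := ((⟨z, hz⟩ : Q.O) - algebraMap P.O Q.O a).2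
  exact lt_of_le_of_ne hm hr

/-- The different exponent is the order of the derivative of the minimal polynomial. -/
theorem ord_fp_eq_diffExp (hK : FunFld.IsFunctionField k K) (hg : FunFld.IsGeometric k K)
    (hφ : LocRes.IsExpansionAt P.1 φ) (hψ : LocRes.IsExpansionAt Q.1 ψ) {e : ℕ}
    (he : FunFld.IsOverWith Q P e) {x : K} (hx : LocRes.vDiff φ 1 x ≠ 0)
    (hx' : LocRes.vDiff ψ 1 (algebraMap K K' x) ≠ 0)
    (hres : ∀ z : K', Q.1 z ≤ 1 → ∃ a : K, P.1 a ≤ 1 ∧ Q.1 (z - algebraMap K K' a) < 1)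
    {s : K'} (hs : Q.1 s = exp (-1))
    (hs' : ∀ Q' : FunFld.Place k K', FunFld.IsOver Q' P → Q' ≠ Q → Q'.1 s = 1) :
    Q.ord (aeval s (derivative (minpoly K s))) = LocRes.diffExp φ ψ e x := by
  obtain ⟨t, -, ht⟩ := exists_val_eq P (-1)
  obtain ⟨-, hd⟩ := diffExp_eq_ordDiff hK hg hφ hψ he hx hx' ht
  obtain ⟨c, hc⟩ := exists_ratio_sep hK hg (D_ne_zero_param hφ ht) s
  have hDs := D_ne_zero_param hψ hs
  have hc0 := ratio_ne_zero hDs hc
  have hγ : KaehlerDifferential.D k K' (algebraMap K K' t) = c⁻¹ • KaehlerDifferential.D k K' s := by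
    rw [hc, inv_smul_smul₀ hc0]
  have h := ord_fp hK ⟨e, he⟩ hres hs hs' ht (fun a ha => exists_integral_ratio hφ hK hg ht ha)
    (D_ne_zero_param hφ ht) hDs hγ
  rw [hd, ordDiff_eq hψ hs 1 hγ, one_mul, FunFld.Place.ord, h]
  rfl

end Groth.Agent.H23Diff
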