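import Mathlib
import Groth.Agent.H23Diff.Setup
import Groth.Agent.H23Proj.Hasse

/-!
Existence of Hasse families and of expansions.
-/

set_option autoImplicit false
set_option linter.unusedSectionVars false
set_option linter.style.haveILetI false

namespace Groth.Agent.H23Diff

open WithZero Polynomial Groth.Agent.H23FunFld

variable {k K : Type*} [Field k] [Field K] [Algebra k K] (hK : FunFld.IsFunctionField k K)
include hK

/-- Total Hasse derivatives exist. -/
theorem exists_hasseFamily (hg : FunFld.IsGeometric k K) {t : K} (ht : KaehlerDifferential.D k K t ≠ 0) :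
    ∃ H : K →ₐ[k] PowerSeries K, LocRes.IsHasseFamily t H := by
  classical
  haveI hsep := Groth.Agent.H23Geom.isSeparable_of_D_ne_zero hK hg ht
  have htr : Transcendental k t := Groth.Agent.H23Geom.transcendental_of_isSeparable hK
  set E := IntermediateField.adjoin k ({t} : Set K)
  haveI := Groth.Agent.H23FunFld.finiteDimensional_adjoin hK htr
  -- the map on the polynomials
  set u : PowerSeries K := PowerSeries.C t + PowerSeries.X
  have hconst : ∀ p : k[X], PowerSeries.constantCoeff (aeval u p) = aeval t p := by
    intro p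
    induction p using Polynomial.induction_on' with
    | add p q hp hq => rw [map_add, map_add, map_add, hp, hq]
    | monomial n c =>
      rw [aeval_monomial, aeval_monomial, map_mul, map_pow, PowerSeries.algebraMap_apply,
        PowerSeries.constantCoeff_C]
      simp [u]
  have hunit : ∀ p : k[X], p ≠ 0 → IsUnit (aeval u p) := fun p hp =>
    PowerSeries.isUnit_iff_constantCoeff.2 (by
      rw [hconst, isUnit_iff_ne_zero]
      exact fun h => htr ⟨p, hp, h⟩)
  let iota₀ : RatFunc k →ₐ[k] PowerSeries K :=
    IsLocalization.liftAlgHom (M := nonZeroDivisors k[X]) (f := aeval u)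
      fun p => hunit p (nonZeroDivisors.ne_zero p.2)
  let eE := RatFunc.algEquivOfTranscendental t htr
  let iota : E →ₐ[k] PowerSeries K := iota₀.comp eE.symm.toAlgHom
  have hiota : ∀ w : E, PowerSeries.constantCoeff (iota w) = (w : K) := by
    let c : RatFunc k →+* K := ((PowerSeries.constantCoeff (R := K))).comp iota₀.toRingHom
    have hc : c = (E.val.comp eE.toAlgHom).toRingHom := by
      refine IsLocalization.ringHom_ext (nonZeroDivisors k[X]) (RingHom.ext fun p => ?_)
      change PowerSeries.constantCoeff (iota₀ (algebraMap k[X] (RatFunc k) p)) = _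
      rw [IsLocalization.liftAlgHom_apply, IsLocalization.lift_eq]
      change PowerSeries.constantCoeff (aeval u p) = ((eE (algebraMap k[X] (RatFunc k) p) : E) : K)
      rw [hconst, RatFunc.algEquivOfTranscendental_algebraMap]
      exact Polynomial.aeval_algHom_apply E.val (IntermediateField.AdjoinSimple.gen k t) p
    intro w
    have := RingHom.congr_fun hc (eE.symm w)
    change PowerSeries.constantCoeff (iota₀ (eE.symm w)) = _ at this
    change PowerSeries.constantCoeff (iota₀ (eE.symm w)) = _
    rw [this]
    change ((eE (eE.symm w) : E) : K) = _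
    rw [AlgEquiv.apply_symm_apply]
  have hiotat : iota ⟨t, IntermediateField.mem_adjoin_simple_self k t⟩ = u := by
    have h1 : eE (algebraMap k[X] (RatFunc k) X) = ⟨t, IntermediateField.mem_adjoin_simple_self k t⟩ := by
      rw [RatFunc.algEquivOfTranscendental_algebraMap, aeval_X]
      rfl
    change iota₀ (eE.symm _) = u
    rw [← h1, AlgEquiv.symm_apply_apply, IsLocalization.liftAlgHom_apply, IsLocalization.lift_eq]
    exact aeval_X u
  -- a generator and its root
  let pb := Field.powerBasisOfFiniteOfSeparable E K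
  set g := minpoly E pb.gen
  set G := g.map iota.toRingHom
  have hG : G.map (PowerSeries.constantCoeff (R := K)) = g.map (algebraMap E K) := by
    rw [Polynomial.map_map]
    congr 1
    exact RingHom.ext hiota
  have hev : ∀ q : (PowerSeries K)[X], ∀ z : K, PowerSeries.constantCoeff (q.eval (PowerSeries.C z)) =
      (q.map (PowerSeries.constantCoeff (R := K))).eval z := fun q z => by
    rw [← PowerSeries.constantCoeff_C z, eval_map_apply, PowerSeries.constantCoeff_C]
  have hmem : ∀ z : PowerSeries K, z ∈ Ideal.span {(PowerSeries.X : PowerSeries K)} ↔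
      PowerSeries.constantCoeff z = 0 := fun z => by
    rw [Ideal.mem_span_singleton, PowerSeries.X_dvd_iff]
  obtain ⟨a, ha, ha'⟩ := HenselianRing.is_henselian (I := Ideal.span {(PowerSeries.X : PowerSeries K)}) G
    ((minpoly.monic pb.isIntegral_gen).map _) (PowerSeries.C pb.gen) (by
      rw [hmem, hev, hG, eval_map, ← aeval_def, minpoly.aeval]) (by
      refine IsUnit.map _ (PowerSeries.isUnit_iff_constantCoeff.2 (isUnit_iff_ne_zero.2 ?_))
      rw [hev, ← derivative_map, hG, derivative_map, eval_map, ← aeval_def]
      exact (Algebra.IsSeparable.isSeparable E pb.gen).aeval_derivative_ne_zero (minpoly.aeval _ _))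
  letI : Algebra E (PowerSeries K) := iota.toRingHom.toAlgebra
  let H := pb.lift a (by rw [aeval_def, ← eval_map]; exact ha)
  let H' : K →ₐ[k] PowerSeries K :=
    { toRingHom := H.toRingHom
      commutes' := fun c => by
        change H (algebraMap k K c) = _
        rw [IsScalarTower.algebraMap_apply k E K, AlgHom.commutes]
        exact iota.commutes c }
  refine ⟨H', ?_, fun w => ?_⟩
  · have e : (t : K) = algebraMap E K ⟨t, IntermediateField.mem_adjoin_simple_self k t⟩ := rfl
    change H t = _
    conv_lhs => rw [e, AlgHom.commutes]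
    exact hiotat
  · change PowerSeries.constantCoeff (H w) = w
    obtain ⟨q, -, rfl⟩ := pb.exists_eq_aeval w
    rw [PowerBasis.lift_aeval, aeval_def, ← eval_map]
    have h1 : PowerSeries.constantCoeff a = pb.gen := by
      rw [hmem, map_sub, PowerSeries.constantCoeff_C, sub_eq_zero] at ha'
      exact ha'
    rw [← eval_map_apply (f := PowerSeries.constantCoeff (R := K)), h1, Polynomial.map_map,
      show (PowerSeries.constantCoeff (R := K)).comp (algebraMap E (PowerSeries K)) = algebraMap E K from
        RingHom.ext hiota, eval_map, ← aeval_def]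

/-- A local parameter has nonzero differential. -/
theorem D_ne_zero_param' [PerfectField k] {P : FunFld.Place k K} {t : K} (ht : P.1 t = exp (-1)) :
    KaehlerDifferential.D k K t ≠ 0 := by
  classical
  have hg := Groth.Agent.H23Geom.isGeometric_of_perfectField hK
  have ht0 : t ≠ 0 := fun h => exp_ne_zero (by rw [← ht, h, map_zero])
  have htr : Transcendental k t := transcendental_of_val_ne_one P ht0 (by
    rw [ht, ← exp_zero]; exact fun h => by rw [exp_inj] at h; omega)
  obtain ⟨x, hx, hsep⟩ := Groth.Agent.H23Geom.exists_separating hK hg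
  haveI := hsep
  intro h0
  rcases CharP.exists' k with hc | ⟨p, hp, hpk⟩
  · haveI := hc
    haveI : CharZero K := charZero_of_injective_algebraMap (algebraMap k K).injective
    haveI := Groth.Agent.H23FunFld.finiteDimensional_adjoin hK htr
    exact Groth.Agent.H23Geom.D_ne_zero hK (x := t) h0
  · haveI := hp
    haveI : CharP K p := charP_of_injective_algebraMap (algebraMap k K).injective p
    haveI : ExpChar k p := ExpChar.prime hp.out
    haveI : ExpChar K p := ExpChar.prime hp.out
    have hle : IntermediateField.adjoin k (Set.range fun y : K => y ^ p) ≤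
        ({ toSubalgebra :=
            { carrier := Set.range fun y : K => y ^ p
              mul_mem' := by rintro _ _ ⟨a, rfl⟩ ⟨b, rfl⟩; exact ⟨a * b, mul_pow a b p⟩
              add_mem' := by rintro _ _ ⟨a, rfl⟩ ⟨b, rfl⟩; exact ⟨a + b, add_pow_char a b p⟩
              algebraMap_mem' := fun c => by
                obtain ⟨d, hd⟩ := surjective_frobenius k p c
                exact ⟨algebraMap k K d, by rw [← hd, frobenius_def, map_pow]⟩ }
           inv_mem' := by rintro _ ⟨a, rfl⟩; exact ⟨a⁻¹, inv_pow a p⟩ } : IntermediateField k K) :=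
      IntermediateField.adjoin_le_iff.2 fun _ h => h
    obtain ⟨w, hw⟩ := hle (Groth.Agent.H23Geom.mem_M_of_D_eq_zero p hK x h0)
    have hw0 : w ≠ 0 := fun h => ht0 (by rw [← hw, h]; exact zero_pow hp.out.ne_zero)
    rw [← hw, map_pow, val_eq_exp P hw0, ← exp_nsmul, exp_inj, nsmul_eq_mul] at ht
    have h2 := Int.eq_one_or_neg_one_of_mul_eq_neg_one ht
    have h3 := hp.out.one_lt
    omega

/-- Over an algebraically closed constant field every place has an expansion. -/
theorem exists_expansion [IsAlgClosed k] (P : FunFld.Place k K) :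
    ∃ Φ : K →ₐ[k] LaurentSeries k, LocRes.IsExpansionAt P.1 Φ := by
  classical
  have hg := Groth.Agent.H23Geom.isGeometric_of_perfectField hK
  obtain ⟨t, ht0, ht⟩ := exists_val_eq P (-1)
  obtain ⟨H, hH⟩ := exists_hasseFamily hK hg (D_ne_zero_param' hK ht)
  have hval : ∀ (z : P.O) j, P.1 (LocRes.hasseD H j (z : K)) ≤ 1 := fun z j =>
    Groth.Agent.H23Proj.val_hasseD_le hK ht hH j z.2
  haveI : @Module.Finite k (IsLocalRing.ResidueField P.O) _ _ Algebra.toModule :=
    finiteDimensional_residueField hK P
  haveI : Algebra.IsAlgebraic k (IsLocalRing.ResidueField P.O) := Algebra.IsAlgebraic.of_finite _ _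
  let e : k ≃ₐ[k] IsLocalRing.ResidueField P.O := AlgEquiv.ofBijective (Algebra.ofId k _)
    (IsAlgClosed.algebraMap_bijective_of_isIntegral (k := k))
  -- the Taylor map
  let T : P.O →+* PowerSeries P.O :=
    { toFun := fun z => PowerSeries.mk fun j => ⟨LocRes.hasseD H j (z : K), hval z j⟩
      map_one' := by
        ext j
        simp only [PowerSeries.coeff_mk, LocRes.hasseD_apply, OneMemClass.coe_one, map_one]
        rw [PowerSeries.coeff_one, PowerSeries.coeff_one]
        split_ifs <;> rfl
      map_mul' := fun a b => by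
        ext j
        simp only [PowerSeries.coeff_mk, LocRes.hasseD_apply, MulMemClass.coe_mul, map_mul, PowerSeries.coeff_mul]
        push_cast [PowerSeries.coeff_mk]
        rfl
      map_zero' := by ext j; simp
      map_add' := fun a b => by ext j; simp }
  let ρ : P.O →+* k := (e.symm : IsLocalRing.ResidueField P.O →+* k).comp (IsLocalRing.residue P.O)
  have hρ : ∀ z : P.O, ρ z = 0 ↔ P.1 (z : K) < 1 := fun z => by
    change e.symm _ = 0 ↔ _
    rw [map_eq_zero_iff e.symm e.symm.injective, IsLocalRing.residue_eq_zero_iff, IsLocalRing.mem_maximalIdeal,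
      mem_nonunits_iff, Groth.Agent.H23Geom.isUnit_O_iff]
    exact ⟨fun h => lt_of_le_of_ne z.2 h, fun h => h.ne⟩
  let Tk : P.O →+* PowerSeries k := (PowerSeries.map ρ).comp T
  have hTk : ∀ (z : P.O) j, PowerSeries.coeff j (Tk z) = ρ ⟨LocRes.hasseD H j (z : K), hval z j⟩ := fun z j => by
    simp [Tk, T]
  have hinj : Function.Injective Tk := by
    rw [injective_iff_map_eq_zero]
    intro z hz
    refine Subtype.ext (Groth.Agent.H23Proj.eq_zero_of_taylor hK ht hH z.2 fun j => ?_)
    have := hTk z j
    rw [hz, map_zero] at this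
    exact (hρ _).1 this.symm
  let Φ₀ : K →+* LaurentSeries k := IsFractionRing.lift (A := P.O)
    (g := (HahnSeries.ofPowerSeries ℤ k).comp Tk) (HahnSeries.ofPowerSeries_injective.comp hinj)
  have hΦ₀ : ∀ z : P.O, Φ₀ (z : K) = ((Tk z : PowerSeries k) : LaurentSeries k) := fun z =>
    IsFractionRing.lift_algebraMap (HahnSeries.ofPowerSeries_injective.comp hinj) z
  have hc : ∀ c : k, Φ₀ (algebraMap k K c) = algebraMap k (LaurentSeries k) c := fun c => by
    rw [LocRes.algebraMap_eq_C, ← HahnSeries.ofPowerSeries_C, ← algebraMap_O_coe P c, hΦ₀]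
    congr 1
    ext j
    rw [hTk, PowerSeries.coeff_C]
    split_ifs with hj
    · subst hj
      have : (⟨LocRes.hasseD H 0 ((algebraMap k P.O c : P.O) : K), hval _ 0⟩ : P.O) = algebraMap k P.O c :=
        Subtype.ext (Groth.Agent.H23Proj.hasseD_zero hH _)
      rw [this]
      exact e.symm_apply_apply c
    · rw [hρ]
      simp [algebraMap_O_coe, PowerSeries.algebraMap_apply, PowerSeries.coeff_C, hj]
  let Φ : K →ₐ[k] LaurentSeries k := { toRingHom := Φ₀, commutes' := hc }
  have hunit : ∀ z : P.O, P.1 (z : K) = 1 →
      Valued.v ((Tk z : PowerSeries k) : LaurentSeries k) = (1 : WithZero (Multiplicative ℤ)) := fun z hz => by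
    refine le_antisymm ((LaurentSeries.val_le_one_iff_eq_coe k _).2 ⟨_, rfl⟩) (not_lt.1 fun hlt => ?_)
    have h1 := LaurentSeries.coeff_zero_of_lt_intValuation k (n := 0) (d := 1) (f := Tk z) (by
      exact le_exp_neg_one' hlt) one_pos
    rw [hTk, hρ] at h1
    change P.1 (LocRes.hasseD H 0 (z : K)) < 1 at h1
    rw [Groth.Agent.H23Proj.hasseD_zero hH, hz] at h1
    exact lt_irrefl _ h1
  have htX : Φ t = ((PowerSeries.X : PowerSeries k) : LaurentSeries k) := by
    change Φ₀ t = _
    rw [show t = ((⟨t, ht.trans_le (exp_le_one_iff.2 (by omega))⟩ : P.O) : K) from rfl, hΦ₀]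
    congr 1
    ext j
    rw [hTk, PowerSeries.coeff_X]
    simp only [LocRes.hasseD_apply, hH.1, map_add, PowerSeries.coeff_C, PowerSeries.coeff_X]
    split_ifs with h1 h2 h2
    · omega
    · rw [hρ]; simp only [add_zero]; rw [ht, ← exp_zero, exp_lt_exp]; omega
    · simp only [zero_add]; exact map_one ρ
    · simp only [add_zero]; exact map_zero ρ
  refine ⟨Φ, fun f => ?_, fun a => ⟨algebraMap k K a, P.2.1 a, ?_⟩, t, ht⟩
  · rcases eq_or_ne f 0 with rfl | hf
    · simp
    set u := f / t ^ P.ord f
    have hu : P.1 u = 1 := by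
      rw [map_div₀, map_zpow₀, ht, val_eq_exp P hf, ← exp_zsmul, ← exp_sub, ← exp_zero]
      congr 1; simp
    have e1 : f = t ^ P.ord f * u := (mul_div_cancel₀ _ (zpow_ne_zero _ ht0)).symm
    conv_lhs => rw [e1, map_mul, map_zpow₀, htX, map_mul, map_zpow₀]
    change Valued.v _ ^ P.ord f * Valued.v (Φ₀ ((⟨u, hu.le⟩ : P.O) : K)) = _
    rw [hΦ₀, hunit _ hu, mul_one, PowerSeries.coe_X, LaurentSeries.valuation_single_zpow, ← exp_zsmul,
      val_eq_exp P hf]
    congr 1
    simp
  · rw [AlgHom.commutes, LocRes.algebraMap_eq_C]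
    simp

end Groth.Agent.H23Diff
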