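import Mathlib
import Groth.Agent.H23Diff.Exist
import Groth.Agent.H23FunFld.Weil
import Groth.Agent.H23Proj.Basic
import Groth.Agent.H23Geom.Criteria

/-!
The cotrace of a Weil differential.
-/

set_option autoImplicit false
set_option linter.unusedSectionVars false
set_option linter.style.haveILetI false

namespace Groth.Agent.H23Diff

open WithZero Polynomial Groth.Agent.H23FunFld Groth.Agent.H23Ext

variable {k K K' : Type*} [Field k] [IsAlgClosed k] [Field K] [Field K'] [Algebra k K] [Algebra K K'] [Algebra k K']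
  [IsScalarTower k K K'] [FiniteDimensional K K'] [Algebra.IsSeparable K K']

theorem hres_of_isAlgClosed (hK' : FunFld.IsFunctionField k K') {P : FunFld.Place k K}
    {Q : FunFld.Place k K'} (z : K') (hz : Q.1 z ≤ 1) :
    ∃ a : K, P.1 a ≤ 1 ∧ Q.1 (z - algebraMap K K' a) < 1 := by
  obtain ⟨c, hc⟩ := Groth.Agent.H23Proj.eq_one_of_isAlgClosed hK' Q hz
  exact ⟨algebraMap k K c, P.2.1 c, by rwa [← IsScalarTower.algebraMap_apply]⟩

variable (hK : FunFld.IsFunctionField k K) (hK' : FunFld.IsFunctionField k K')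
include hK hK'

/-- The two facts about the trace dual, with the exponent of the differential. -/
theorem dual_facts {P : FunFld.Place k K} {Q : FunFld.Place k K'} (hQ : FunFld.IsOver Q P)
    {t : K} (ht : P.1 t = exp (-1)) :
    ∃ d : ℤ, (∀ s γ : K', Q.1 s = exp (-1) →
        KaehlerDifferential.D k K' (algebraMap K K' t) = γ • KaehlerDifferential.D k K' s → Q.ord γ = d) ∧
      (∀ y : K', (∀ z : K', (∀ R : FunFld.Place k K', FunFld.IsOver R P → R.1 z ≤ 1) →
        P.1 (Algebra.trace K K' (y * z)) ≤ 1) → Q.1 y ≤ exp d) ∧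
      ∃ w : K', (∀ z : K', (∀ R : FunFld.Place k K', FunFld.IsOver R P → R.1 z ≤ 1) →
        P.1 (Algebra.trace K K' (w * z)) ≤ 1) ∧ Q.1 w = exp d := by
  have hg := Groth.Agent.H23Geom.isGeometric_of_perfectField hK
  have hres := fun z hz => hres_of_isAlgClosed (K := K) (P := P) hK' (Q := Q) z hz
  obtain ⟨s, hs, hs'⟩ := exists_s hK Q (P := P)
  obtain ⟨φ, hφ⟩ := exists_expansion hK P
  obtain ⟨ψ, hψ⟩ := exists_expansion hK' Q
  obtain ⟨w, hw, hwv⟩ := exists_dual_eq hK hQ hres hs hs'
  refine ⟨Q.ord (aeval s (derivative (minpoly K s))), fun s₁ γ hs₁ hγ => ?_, fun y hy => ?_, w, hw, hwv⟩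
  · obtain ⟨c, hc⟩ := exists_ratio_sep hK hg (D_ne_zero_param' hK ht) s
    have hDs := D_ne_zero_param' hK' hs
    have hc0 := ratio_ne_zero hDs hc
    have hγ' : KaehlerDifferential.D k K' (algebraMap K K' t) = c⁻¹ • KaehlerDifferential.D k K' s := by
      rw [hc, inv_smul_smul₀ hc0]
    have h := ord_fp hK hQ hres hs hs' ht (fun a ha => exists_integral_ratio hφ hK hg ht ha)
      (D_ne_zero_param' hK ht) hDs hγ'
    have h1 := vDiff_eq hψ hs 1 hγ'
    rw [vDiff_eq hψ hs₁ 1 hγ, one_mul, one_mul, ← h] at h1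
    simp only [FunFld.Place.ord, h1]
  · exact dual_le hK hQ hres hs hs' fun z hz => hy z fun R hR => val_le_one_of_isIntegral hR hz

/-- The trace dual contains everything within the bounds. -/
theorem trace_le_one_of_le {P : FunFld.Place k K} {t : K} (ht : P.1 t = exp (-1))
    {d : FunFld.Place k K' → ℤ}
    (hd : ∀ (Q : FunFld.Place k K'), FunFld.IsOver Q P → ∀ s γ : K', Q.1 s = exp (-1) →
        KaehlerDifferential.D k K' (algebraMap K K' t) = γ • KaehlerDifferential.D k K' s → Q.ord γ = d Q)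
    {z : K'} (hz : ∀ Q : FunFld.Place k K', FunFld.IsOver Q P → Q.1 z ≤ exp (d Q)) :
    P.1 (Algebra.trace K K' z) ≤ 1 := by
  classical
  have hg := Groth.Agent.H23Geom.isGeometric_of_perfectField hK
  rcases eq_or_ne z 0 with rfl | hz0
  · simp
  set S := (finite_isOver (K' := K') hK P).toFinset
  have hS : ∀ Q, Q ∈ S ↔ FunFld.IsOver Q P := fun Q => (finite_isOver hK P).mem_toFinset
  have hex : ∀ Q : S, ∃ w : K', w ≠ 0 ∧ (∀ u : K', (∀ R : FunFld.Place k K', FunFld.IsOver R P → R.1 u ≤ 1) →
        P.1 (Algebra.trace K K' (w * u)) ≤ 1) ∧ (Q : FunFld.Place k K').1 w = exp (d Q) := by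
    intro Q
    obtain ⟨d', hd', -, w, hw, hwv⟩ := dual_facts hK hK' ((hS _).1 Q.2) ht
    obtain ⟨s, hs, -⟩ := exists_s hK (Q : FunFld.Place k K') (P := P)
    obtain ⟨c, hc⟩ := exists_ratio_sep hK hg (D_ne_zero_param' hK ht) s
    have hc0 := ratio_ne_zero (D_ne_zero_param' hK' hs) hc
    have hγ' : KaehlerDifferential.D k K' (algebraMap K K' t) = c⁻¹ • KaehlerDifferential.D k K' s := by
      rw [hc, inv_smul_smul₀ hc0]
    exact ⟨w, fun h => exp_ne_zero (by rw [← hwv, h, map_zero]), hw,
      by rw [hwv, ← hd' s _ hs hγ', hd _ ((hS _).1 Q.2) s _ hs hγ']⟩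
  choose w hw0 hw hwv using hex
  let m : FunFld.Place k K' → ℤ := fun R => -(∑ Q : S, |R.ord (w Q)|) - |R.ord z|
  choose ε hε using fun Q : S => approximation S (fun R => if R = Q then (1 : K') else 0) m
  have hm : ∀ R, m R ≤ 0 := fun R => by
    have h1 : 0 ≤ ∑ Q : S, |R.ord (w Q)| := Finset.sum_nonneg fun _ _ => abs_nonneg _
    have h2 := abs_nonneg (R.ord z)
    simp only [m]
    omega
  have hsmall : ∀ (Q : S) (R : FunFld.Place k K') (u : K'), R.1 u ≤ exp (m R) → R.1 (z * u / w Q) ≤ 1 := by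
    intro Q R u hu
    rw [map_div₀, map_mul, div_le_one₀ (zero_lt_iff.2 (val_ne_zero R (hw0 Q))), val_eq_exp R hz0,
      val_eq_exp R (hw0 Q)]
    refine (mul_le_mul' le_rfl hu).trans ?_
    rw [← exp_add, exp_le_exp]
    have h1 := Finset.single_le_sum (f := fun Q : S => |R.ord (w Q)|) (fun _ _ => abs_nonneg _) (Finset.mem_univ Q)
    have h2 := abs_le.1 (le_refl |R.ord z|)
    have h3 := abs_le.1 (le_refl |R.ord (w Q)|)
    simp only [m]
    omega
  have hsmall1 : ∀ (Q : S) (u : K'), (Q : FunFld.Place k K').1 u ≤ 1 → (Q : FunFld.Place k K').1 (z * u / w Q) ≤ 1 := by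
    intro Q u hu
    rw [map_div₀, map_mul, div_le_one₀ (zero_lt_iff.2 (val_ne_zero _ (hw0 Q))), hwv]
    exact (mul_le_of_le_one_right zero_le hu).trans (hz _ ((hS _).1 Q.2))
  have hterm : ∀ Q : S, P.1 (Algebra.trace K K' (z * ε Q)) ≤ 1 := by
    intro Q
    rw [show z * ε Q = w Q * (z * ε Q / w Q) from (mul_div_cancel₀ _ (hw0 Q)).symm]
    refine hw Q _ fun R hR => ?_
    have h := hε Q R ((hS R).2 hR)
    rcases eq_or_ne R Q with rfl | hne
    · rw [if_pos rfl] at h
      refine hsmall1 Q _ ?_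
      rw [show ε Q = (ε Q - 1) + 1 by ring]
      exact ((Q : FunFld.Place k K').1.map_add _ _).trans (max_le (h.trans (exp_le_one_iff.2 (hm _))) (map_one _).le)
    · rw [if_neg hne, sub_zero] at h
      exact hsmall Q R _ h
  obtain ⟨Q₁, hQ₁⟩ := exists_above (K' := K') hK P
  have hrest : P.1 (Algebra.trace K K' (z * (1 - ∑ Q : S, ε Q))) ≤ 1 := by
    let Q₁' : S := ⟨Q₁, (hS _).2 hQ₁⟩
    rw [show z * (1 - ∑ Q : S, ε Q) = w Q₁' * (z * (1 - ∑ Q : S, ε Q) / w Q₁') from
      (mul_div_cancel₀ _ (hw0 _)).symm]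
    refine hw Q₁' _ fun R hR => hsmall Q₁' R _ ?_
    have hRS := (hS R).2 hR
    rw [← Finset.add_sum_erase _ _ (Finset.mem_univ (⟨R, hRS⟩ : S)), ← sub_sub]
    refine (R.1.map_sub _ _).trans (max_le ?_ (R.1.map_sum_le fun Q hQ => ?_))
    · have h := hε ⟨R, hRS⟩ R hRS
      rw [if_pos rfl] at h
      rwa [Valuation.map_sub_swap]
    · have h := hε Q R hRS
      rw [if_neg (fun e => (Finset.mem_erase.1 hQ).1 (Subtype.ext e.symm)), sub_zero] at h
      exact h
  rw [show z = z * (1 - ∑ Q : S, ε Q) + ∑ Q : S, z * ε Q by rw [← Finset.mul_sum]; ring, map_add, map_sum]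
  exact (P.1.map_add _ _).trans (max_le hrest (P.1.map_sum_le fun Q _ => hterm Q))

omit [Algebra.IsSeparable K K'] hK' in
theorem single_mem_adele (Q : FunFld.Place k K') [DecidableEq (FunFld.Place k K')] (y : K') :
    (Pi.single Q y : FunFld.Place k K' → K') ∈ FunFld.adele k K' := by
  change ∀ᶠ R in Filter.cofinite, _
  rw [Filter.eventually_cofinite]
  refine (Set.finite_singleton Q).subset fun R hR => ?_
  by_contra hne
  exact hR (by rw [Pi.single_eq_of_ne hne, map_zero]; exact zero_le)

/-- The canonical class goes up by the different. -/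
theorem isCanonical_of_different {C : FunFld.Divisor k K} (hC : FunFld.IsCanonical k K C)
    (C' : FunFld.Divisor k K')
    (hC' : ∀ (P : FunFld.Place k K) (Q : FunFld.Place k K') (e : ℕ), FunFld.IsOverWith Q P e →
      ∀ (t : K) (s γ : K'), P.1 t = exp (-1) → Q.1 s = exp (-1) →
        KaehlerDifferential.D k K' (algebraMap K K' t) = γ • KaehlerDifferential.D k K' s →
        C' Q = Q.ord γ + e * C P) :
    FunFld.IsCanonical k K' C' := by
  classical
  obtain ⟨ω, hω0, hω⟩ := hC
  choose below hbelow using fun Q : FunFld.Place k K' => exists_below (K := K) hK.1 Q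
  choose e he using hbelow
  -- rescaling: the local bound for traces
  have hA : ∀ (P : FunFld.Place k K) (z : K'),
      (∀ Q : FunFld.Place k K', FunFld.IsOver Q P → Q.1 z ≤ exp (C' Q)) →
      P.1 (Algebra.trace K K' z) ≤ exp (C P) := by
    intro P z hz
    obtain ⟨t, ht0, ht⟩ := exists_val_eq P (-1)
    have htc : algebraMap K K' (t ^ C P) ≠ 0 := fun h => zpow_ne_zero _ ht0 ((map_eq_zero _).1 h)
    have h := trace_le_one_of_le hK hK' ht (d := fun Q => C' Q - e Q * C P)
      (fun Q hQ s γ hs hγ => by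
        have := hC' _ _ _ (he Q) t s γ ((isOver_unique hQ ⟨_, he Q⟩) ▸ ht) hs hγ
        rw [← isOver_unique hQ ⟨_, he Q⟩] at this
        linarith)
      (z := algebraMap K K' (t ^ C P) * z) (fun Q hQ => by
        have hv : Q.1 (algebraMap K K' (t ^ C P)) = exp (-((e Q : ℤ) * C P)) := by
          have h1 := he Q (t ^ C P)
          rw [h1, ← isOver_unique hQ ⟨_, he Q⟩, map_zpow₀, ht, ← exp_zsmul, ← exp_nsmul]
          congr 1
          simp [mul_comm]
        rw [map_mul, hv]
        refine (mul_le_mul' le_rfl (hz Q hQ)).trans ?_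
        rw [← exp_add, exp_le_exp]; omega)
    rw [← Algebra.smul_def, map_smul, smul_eq_mul, map_mul, map_zpow₀, ht, ← exp_zsmul] at h
    rcases eq_or_ne (P.1 (Algebra.trace K K' z)) 0 with h0 | h0
    · rw [h0]; exact zero_le
    · rw [← exp_log h0, ← exp_add, exp_le_one_iff] at h
      rw [← exp_log h0, exp_le_exp]
      simp at h
      omega
  -- the approximants
  let app : (FunFld.Place k K' → K') → FunFld.Place k K → K' := fun a P =>
    (approximation (finite_isOver (K' := K') hK P).toFinset a C').choose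
  have happ : ∀ a P (Q : FunFld.Place k K'), FunFld.IsOver Q P → Q.1 (app a P - a Q) ≤ exp (C' Q) :=
    fun a P Q hQ => (approximation (finite_isOver (K' := K') hK P).toFinset a C').choose_spec Q
      ((finite_isOver hK P).mem_toFinset.2 hQ)
  let τ : (FunFld.Place k K' → K') → FunFld.Place k K → K := fun a P => Algebra.trace K K' (app a P)
  have hτ : ∀ a ∈ FunFld.adele k K', τ a ∈ FunFld.adele k K := by
    intro a ha
    change ∀ᶠ P in Filter.cofinite, _
    rw [Filter.eventually_cofinite]
    change ∀ᶠ Q in Filter.cofinite, _ at ha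
    rw [Filter.eventually_cofinite] at ha
    refine ((C.support.finite_toSet.union ((ha.union C'.support.finite_toSet).image below))).subset fun P hP => ?_
    by_contra hno
    simp only [Set.mem_union, Set.mem_image, not_or, not_exists, not_and, Finset.mem_coe,
      Finsupp.mem_support_iff, not_not] at hno
    refine hP ((hA P _ fun Q hQ => ?_).trans (by rw [hno.1, exp_zero]))
    have hb : below Q = P := isOver_unique ⟨_, he Q⟩ hQ
    have h1 := hno.2 Q
    have hQC : C' Q = 0 := by
      by_contra h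
      exact h1 (Or.inr h) hb
    have hQa : Q.1 (a Q) ≤ 1 := by
      by_contra h
      exact h1 (Or.inl h) hb
    rw [hQC, exp_zero, show app a P = (app a P - a Q) + a Q by ring]
    refine (Q.1.map_add _ _).trans (max_le ?_ hQa)
    have := happ a P Q hQ
    rwa [hQC, exp_zero] at this
  have hkill : ∀ b : FunFld.adele k K, (b : FunFld.Place k K → K) ∈ FunFld.AD C → ω b = 0 := fun b hb =>
    mem_WD_iff.1 ((hω C).2 le_rfl) b (Submodule.mem_sup_left hb)
  have hτadd : ∀ (a b : FunFld.Place k K' → K') (c : k),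
      τ (a + c • b) - (τ a + c • τ b) ∈ FunFld.AD C := by
    intro a b c P
    change P.1 (Algebra.trace K K' (app (a + c • b) P) -
      (Algebra.trace K K' (app a P) + c • Algebra.trace K K' (app b P))) ≤ _
    rw [← (Algebra.trace K K').map_smul_of_tower, ← map_add, ← map_sub]
    refine hA P _ fun Q hQ => ?_
    have h1 := happ (a + c • b) P Q hQ
    rw [show app (a + c • b) P - (app a P + c • app b P) =
      (app (a + c • b) P - (a + c • b) Q) - ((app a P - a Q) + c • (app b P - b Q)) by
        simp only [Pi.add_apply, Pi.smul_apply, smul_sub]; abel]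
    refine (Q.1.map_sub _ _).trans (max_le h1 ((Q.1.map_add _ _).trans (max_le (happ a P Q hQ) ?_)))
    exact (val_smul_le Q c _).trans (happ b P Q hQ)
  let W : ↥(FunFld.adele k K') → k := fun a => ω ⟨τ a, hτ a a.2⟩
  have hW : ∀ (a b : ↥(FunFld.adele k K')) (c : k), W (a + c • b) = W a + c * W b := by
    intro a b c
    have h := hkill (⟨τ (a + c • b : ↥(FunFld.adele k K')), hτ _ (a + c • b).2⟩ -
      (⟨τ a, hτ a a.2⟩ + c • ⟨τ b, hτ b b.2⟩)) (hτadd a b c)
    rw [map_sub, map_add, map_smul, sub_eq_zero, smul_eq_mul] at h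
    exact h
  let ω' : Module.Dual k (FunFld.adele k K') :=
    { toFun := W
      map_add' := fun a b => by simpa using hW a b 1
      map_smul' := fun c b => by
        have h0 := hW 0 0 1
        simp only [smul_zero, add_zero, one_mul, left_eq_add] at h0
        simpa [h0] using hW 0 b c }
  have hmem : ω' ∈ FunFld.WD C' := by
    rw [mem_WD_iff]
    intro a ha
    obtain ⟨b, hb, _, ⟨y, rfl⟩, hab⟩ := Submodule.mem_sup.1 ha
    have h1 : (⟨τ a, hτ a a.2⟩ : FunFld.adele k K) -
        ⟨FunFld.diag k K (Algebra.trace K K' y), diag_le_adele hK ⟨_, rfl⟩⟩ = _ := rfl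
    have h2 := hkill (⟨τ a, hτ a a.2⟩ - ⟨FunFld.diag k K (Algebra.trace K K' y), diag_le_adele hK ⟨_, rfl⟩⟩)
      (fun P => by
        change P.1 (Algebra.trace K K' (app a P) - Algebra.trace K K' y) ≤ _
        rw [← map_sub]
        refine hA P _ fun Q hQ => ?_
        have h3 := happ a P Q hQ
        rw [show app a P - y = (app a P - (a : FunFld.Place k K' → K') Q) + b Q by
          have := congrFun hab Q
          change b Q + y = _ at this
          rw [← this]; ring]
        exact (Q.1.map_add _ _).trans (max_le h3 (hb Q)))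
    rw [map_sub, sub_eq_zero] at h2
    change ω _ = 0
    rw [h2]
    exact mem_WD_iff.1 ((hω C).2 le_rfl) _ (Submodule.mem_sup_right ⟨_, rfl⟩)
  have hdiv : ∀ E, ω' ∈ FunFld.WD E → E ≤ C' := by
    intro E hE Q₀
    by_contra hlt
    rw [not_le] at hlt
    set P₀ := below Q₀
    obtain ⟨t, ht0, ht⟩ := exists_val_eq P₀ (-1)
    obtain ⟨d, hd, hdle, -⟩ := dual_facts hK hK' ⟨_, he Q₀⟩ ht
    -- a test element
    obtain ⟨u, hu0, hu⟩ := exists_val_eq Q₀ (C' Q₀ + 1)
    obtain ⟨z₀, hz₀⟩ := approximation (insert Q₀ (finite_isOver (K' := K') hK P₀).toFinset)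
      (fun R => if R = Q₀ then u else 0) C'
    have hzQ : Q₀.1 z₀ = exp (C' Q₀ + 1) := by
      have h := hz₀ Q₀ (Finset.mem_insert_self _ _)
      rw [if_pos rfl] at h
      rw [show z₀ = u + (z₀ - u) by ring, Q₀.1.map_add_eq_of_lt_left (h.trans_lt (by rw [hu, exp_lt_exp]; omega)), hu]
    have hzR : ∀ R : FunFld.Place k K', FunFld.IsOver R P₀ → R ≠ Q₀ → R.1 z₀ ≤ exp (C' R) := fun R hR hne => by
      have h := hz₀ R (Finset.mem_insert_of_mem ((finite_isOver hK P₀).mem_toFinset.2 hR))
      rwa [if_neg hne, sub_zero] at h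
    have htC : algebraMap K K' (t ^ C P₀) ≠ 0 := fun h => zpow_ne_zero _ ht0 ((map_eq_zero _).1 h)
    obtain ⟨r, hr, hrbig⟩ : ∃ r : K', (∀ R : FunFld.Place k K', FunFld.IsOver R P₀ → R.1 r ≤ 1) ∧
        exp (C P₀) < P₀.1 (Algebra.trace K K' (z₀ * r)) := by
      by_contra hno
      simp only [not_exists, not_and, not_lt] at hno
      have h := hdle (algebraMap K K' (t ^ C P₀) * z₀) fun r hr => by
        rw [mul_assoc, ← Algebra.smul_def, map_smul, smul_eq_mul, map_mul, map_zpow₀, ht, ← exp_zsmul]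
        refine (mul_le_mul' le_rfl (hno r hr)).trans ?_
        rw [← exp_add, exp_le_one_iff]; simp
      rw [map_mul, he Q₀, hzQ, map_zpow₀, ht, ← exp_zsmul, ← exp_nsmul, ← exp_add, exp_le_exp] at h
      obtain ⟨s, hs, -⟩ := exists_s hK Q₀ (P := P₀)
      obtain ⟨c, hc⟩ := exists_ratio_sep hK (Groth.Agent.H23Geom.isGeometric_of_perfectField hK)
        (D_ne_zero_param' hK ht) s
      have hc0 := ratio_ne_zero (D_ne_zero_param' hK' hs) hc
      have hγ : KaehlerDifferential.D k K' (algebraMap K K' t) = c⁻¹ • KaehlerDifferential.D k K' s := by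
        rw [hc, inv_smul_smul₀ hc0]
      have h4 := hC' _ _ _ (he Q₀) t s _ ht hs hγ
      rw [hd s _ hs hγ] at h4
      simp at h
      linarith
    set v := Algebra.trace K K' (z₀ * r)
    have hbound : ∀ R : FunFld.Place k K', FunFld.IsOver R P₀ → R.1 (algebraMap K K' t * (z₀ * r)) ≤ exp (C' R) := by
      intro R hR
      have hb : below R = P₀ := isOver_unique ⟨_, he R⟩ hR
      have htR : R.1 (algebraMap K K' t) ≤ exp (-1) := by
        rw [he R, hb, ht, ← exp_nsmul, exp_le_exp]
        have := IsOverWith.pos (he R)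
        simp
        omega
      rw [map_mul, map_mul]
      rcases eq_or_ne R Q₀ with rfl | hne
      · refine (mul_le_mul' htR (mul_le_of_le_one_right zero_le (hr _ hR))).trans ?_
        rw [hzQ, ← exp_add, exp_le_exp]; omega
      · exact (mul_le_of_le_one_left zero_le (htR.trans (exp_le_one_iff.2 (by omega)))).trans
          ((mul_le_of_le_one_right zero_le (hr R hR)).trans (hzR R hR hne))
    have hvle : P₀.1 v ≤ exp (C P₀ + 1) := by
      have h := hA P₀ _ hbound
      rw [← Algebra.smul_def, map_smul, smul_eq_mul, map_mul, ht] at h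
      rcases eq_or_ne (P₀.1 v) 0 with h0 | h0
      · rw [h0]; exact zero_le
      · rw [← exp_log h0, ← exp_add, exp_le_exp] at h
        rw [← exp_log h0, exp_le_exp]
        omega
    have hv : P₀.1 v = exp (C P₀ + 1) := by
      have h0 : P₀.1 v ≠ 0 := fun h => by rw [h] at hrbig; exact not_lt_zero' hrbig
      rw [← exp_log h0] at hrbig hvle ⊢
      rw [exp_lt_exp] at hrbig
      rw [exp_le_exp] at hvle
      congr 1
      omega
    have hv0 : v ≠ 0 := fun h => exp_ne_zero (by rw [← hv, h, map_zero])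
    -- evaluate
    let a : ↥(FunFld.adele k K') := ⟨Pi.single Q₀ (z₀ * r), single_mem_adele hK Q₀ _⟩
    have ha : ω' a = 0 := mem_WD_iff.1 hE a (Submodule.mem_sup_left fun R => by
      rcases eq_or_ne R Q₀ with rfl | hne
      · rw [show (a : FunFld.Place k K' → K') R = z₀ * r by simp [a], map_mul]
        refine ((mul_le_of_le_one_right zero_le (hr _ ⟨_, he R⟩)).trans_eq hzQ).trans ?_
        rw [exp_le_exp]; omega
      · rw [show (a : FunFld.Place k K' → K') R = 0 from Pi.single_eq_of_ne hne _, map_zero]; exact zero_le)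
    have hsing : ∀ y : K, (Pi.single P₀ y : FunFld.Place k K → K) ∈ FunFld.adele k K := fun y => by
      change ∀ᶠ R in Filter.cofinite, _
      rw [Filter.eventually_cofinite]
      refine (Set.finite_singleton P₀).subset fun R hR => ?_
      by_contra hne
      exact hR (by rw [Pi.single_eq_of_ne hne, map_zero]; exact zero_le)
    have h1 := hkill (⟨τ a, hτ a a.2⟩ - ⟨Pi.single P₀ v, hsing v⟩) fun P => by
      change P.1 (Algebra.trace K K' (app a P) - (Pi.single P₀ v : FunFld.Place k K → K) P) ≤ _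
      rcases eq_or_ne P P₀ with rfl | hne
      · rw [Pi.single_eq_same, ← map_sub]
        refine hA _ _ fun R hR => ?_
        have h := happ a _ R hR
        rcases eq_or_ne R Q₀ with rfl | hR0
        · rwa [show (a : FunFld.Place k K' → K') R = z₀ * r by simp [a]] at h
        · rw [show (a : FunFld.Place k K' → K') R = 0 from Pi.single_eq_of_ne hR0 _, sub_zero] at h
          refine (R.1.map_sub _ _).trans (max_le h ?_)
          rw [map_mul]
          exact (mul_le_of_le_one_right zero_le (hr R hR)).trans (hzR R hR hR0)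
      · rw [Pi.single_eq_of_ne hne, sub_zero]
        refine hA _ _ fun R hR => ?_
        have h := happ a _ R hR
        have hR0 : R ≠ Q₀ := fun e0 => hne (isOver_unique (e0 ▸ hR) ⟨_, he Q₀⟩)
        rwa [show (a : FunFld.Place k K' → K') R = 0 from Pi.single_eq_of_ne hR0 _, sub_zero] at h
    rw [map_sub, sub_eq_zero] at h1
    change ω _ = 0 at ha
    rw [h1] at ha
    -- so `ω` vanishes on a larger space
    have hbig : ω ∈ FunFld.WD (C + Finsupp.single P₀ 1) := by
      rw [mem_WD_iff]
      intro b hb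
      obtain ⟨b₁, hb₁, b₂, hb₂, hsum⟩ := Submodule.mem_sup.1 hb
      have hq : P₀.1 (b₁ P₀ / v) ≤ 1 := by
        rw [map_div₀, div_le_one₀ (zero_lt_iff.2 (val_ne_zero _ hv0)), hv]
        have := hb₁ P₀
        rwa [Finsupp.add_apply, Finsupp.single_eq_same] at this
      obtain ⟨c, hc⟩ := Groth.Agent.H23Proj.eq_one_of_isAlgClosed hK P₀ hq
      have hrest : (b₁ - c • (Pi.single P₀ v : FunFld.Place k K → K)) ∈ FunFld.AD C := by
        intro R
        rcases eq_or_ne R P₀ with rfl | hne
        · rw [Pi.sub_apply, Pi.smul_apply, Pi.single_eq_same, Algebra.smul_def,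
            show b₁ P₀ - algebraMap k K c * v = (b₁ P₀ / v - algebraMap k K c) * v by
              rw [sub_mul, div_mul_cancel₀ _ hv0], map_mul, hv]
          refine (mul_le_mul' (le_exp_neg_one' hc) le_rfl).trans ?_
          rw [← exp_add, exp_le_exp]; omega
        · rw [Pi.sub_apply, Pi.smul_apply, Pi.single_eq_of_ne hne, smul_zero, sub_zero]
          have := hb₁ R
          rwa [Finsupp.add_apply, Finsupp.single_eq_of_ne hne, add_zero] at this
      have e1 : b = ⟨b₁ - c • (Pi.single P₀ v : FunFld.Place k K → K), AD_le_adele _ hrest⟩ +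
          c • ⟨Pi.single P₀ v, hsing v⟩ + ⟨b₂, diag_le_adele hK hb₂⟩ := by
        apply Subtype.ext
        change (b : FunFld.Place k K → K) = (b₁ - c • (Pi.single P₀ v : FunFld.Place k K → K)) + c • (Pi.single P₀ v : FunFld.Place k K → K) + b₂
        rw [sub_add_cancel, hsum]
      rw [e1, map_add, map_add, map_smul, ha, smul_zero, hkill _ hrest, add_zero, zero_add]
      exact mem_WD_iff.1 ((hω C).2 le_rfl) _ (Submodule.mem_sup_right hb₂)
    have h5 := (hω _).1 hbig P₀
    simp at h5
  exact ⟨ω', fun h0 => by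
    obtain ⟨Q⟩ := nonempty_place hK'
    have := hdiv (C' + Finsupp.single Q 1) (h0 ▸ Submodule.zero_mem _) Q
    simp at this, fun E => ⟨hdiv E, fun hle => WD_anti hle hmem⟩⟩

end Groth.Agent.H23Diff
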