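import Mathlib
import Groth.Agent.H23Diff.Cotrace
import Groth.Agent.H23FunFld.Rational
import Groth.Prelude.Def_W4bk4goldsch45p2

/-!
The divisor of a differential is canonical.
-/

set_option autoImplicit false
set_option linter.unusedSectionVars false
set_option linter.style.haveILetI false

namespace Groth.Agent.H23Diff

open WithZero Polynomial Groth.Agent.H23FunFld Groth.Agent.H23Ext

variable {k K : Type*} [Field k] [IsAlgClosed k] [Field K] [Algebra k K] (hK : FunFld.IsFunctionField k K)
include hK

/-- The order of `dx/dt` does not depend on the local parameter. -/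
theorem ord_ratio_eq {P : FunFld.Place k K} {x t t' c c' : K} (ht : P.1 t = exp (-1)) (ht' : P.1 t' = exp (-1))
    (hc : KaehlerDifferential.D k K x = c • KaehlerDifferential.D k K t)
    (hc' : KaehlerDifferential.D k K x = c' • KaehlerDifferential.D k K t') : P.ord c = P.ord c' := by
  obtain ⟨Φ, hΦ⟩ := exists_expansion hK P
  have h := vDiff_eq hΦ ht 1 hc
  rw [vDiff_eq hΦ ht' 1 hc', one_mul, one_mul] at h
  simp only [FunFld.Place.ord, h]

/-- The divisor of `dx` is canonical. -/
theorem exists_canonical_dx {x : K} (hx : KaehlerDifferential.D k K x ≠ 0) :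
    ∃ C : FunFld.Divisor k K, FunFld.IsCanonical k K C ∧ ∀ (P : FunFld.Place k K) (t c : K),
      P.1 t = exp (-1) → KaehlerDifferential.D k K x = c • KaehlerDifferential.D k K t → C P = P.ord c := by
  classical
  have hg := Groth.Agent.H23Geom.isGeometric_of_perfectField hK
  haveI hsep := Groth.Agent.H23Geom.isSeparable_of_D_ne_zero hK hg hx
  have htr : Transcendental k x := Groth.Agent.H23Geom.transcendental_of_isSeparable hK
  set E := IntermediateField.adjoin k ({x} : Set K)
  haveI := finiteDimensional_adjoin hK htr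
  obtain ⟨hE, hgE⟩ := Groth.Agent.H23Geom.isGeometric_of_le hK hg E
    ⟨x, IntermediateField.mem_adjoin_simple_self k x, htr⟩
  set xE : E := ⟨x, IntermediateField.mem_adjoin_simple_self k x⟩
  have hEtop : ∀ c : k, IntermediateField.adjoin k ({xE - algebraMap k E c} : Set E) = ⊤ := by
    intro c
    apply IntermediateField.map_injective E.val
    rw [IntermediateField.adjoin_map, Set.image_singleton, ← AlgHom.fieldRange_eq_map,
      IntermediateField.fieldRange_val]
    change IntermediateField.adjoin k ({x - algebraMap k K c} : Set K) = E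
    refine le_antisymm ?_ ?_ <;> rw [IntermediateField.adjoin_le_iff, Set.singleton_subset_iff]
    · exact (xE - algebraMap k E c).2
    · have h1 := add_mem (IntermediateField.mem_adjoin_simple_self k (x - algebraMap k K c))
        ((IntermediateField.adjoin k ({x - algebraMap k K c} : Set K)).algebraMap_mem c)
      rwa [sub_add_cancel] at h1
  have hEtop0 : IntermediateField.adjoin k ({xE} : Set E) = ⊤ := by simpa using hEtop 0
  obtain ⟨hg0, Pinf, hPdeg, hPinf, hPother⟩ := genus_zero_of_adjoin_top hE hEtop0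
  have hxE0 : xE ≠ 0 := fun h => htr (by
    have : x = 0 := congrArg Subtype.val h
    exact this ▸ isAlgebraic_zero)
  have hxEv : Pinf.1 xE = exp 1 := by rw [val_eq_exp _ hxE0, hPinf]; rfl
  -- parameters below
  have hfin : ∀ P : FunFld.Place k E, P ≠ Pinf → ∃ c : k, P.1 (xE - algebraMap k E c) = exp (-1) := by
    intro P hP
    obtain ⟨c, hc⟩ := Groth.Agent.H23Proj.eq_one_of_isAlgClosed hE P ((val_le_one_iff P hxE0).2 (hPother P hP))
    refine ⟨c, ?_⟩
    have htE : Transcendental k (xE - algebraMap k E c) := fun h => htr (by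
      simpa [xE] using (h.add (isAlgebraic_algebraMap c)).algebraMap (A := K))
    have h0 : xE - algebraMap k E c ≠ 0 := fun h => htE (h ▸ isAlgebraic_zero)
    have hpos := (val_lt_one_iff P h0).1 hc
    have h1 := sum_ord_mul_deg_le hE htE {P} (fun R hR => by rw [Finset.mem_singleton.1 hR]; exact hpos)
    rw [Finset.sum_singleton, hEtop c, IntermediateField.finrank_top,
      Groth.Agent.H23Proj.deg_eq_one_of_isAlgClosed hE] at h1
    rw [val_eq_exp P h0]
    congr 1
    push_cast at h1
    omega
  set CE : FunFld.Divisor k E := Finsupp.single Pinf (-2)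
  have hCEcan : FunFld.IsCanonical k E CE := by
    have hdeg : CE.deg = -2 := by rw [deg_single, hPdeg]; norm_num
    refine isCanonical_of_ell_deg hE ?_ (by rw [hdeg, hg0]; norm_num)
    rw [hg0, FunFld.ell, L_eq_bot_of_deg_neg hE (by rw [hdeg]; norm_num), finrank_bot]
  have hCE : ∀ (P : FunFld.Place k E) (t : E), P.1 t = exp (-1) → ∃ c : E,
      KaehlerDifferential.D k E xE = c • KaehlerDifferential.D k E t ∧ CE P = P.ord c := by
    intro P t ht
    obtain ⟨c, hc⟩ := exists_ratio hE hgE (D_ne_zero_param' hE ht) xE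
    refine ⟨c, hc, ?_⟩
    rcases eq_or_ne P Pinf with rfl | hP
    · have ht' : P.1 xE⁻¹ = exp (-1) := by rw [map_inv₀, hxEv, exp_neg]
      have h1 : KaehlerDifferential.D k E xE = (-(xE ^ 2)) • KaehlerDifferential.D k E xE⁻¹ := by
        rw [Derivation.leibniz_inv, smul_smul]
        rw [show -(xE ^ 2) * -xE⁻¹ ^ 2 = 1 by field_simp, one_smul]
      rw [ord_ratio_eq hE ht ht' hc h1, Finsupp.single_eq_same]
      simp only [FunFld.Place.ord, Valuation.map_neg, map_pow, hxEv, ← exp_nsmul, log_exp]
      norm_num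
    · obtain ⟨a, ha⟩ := hfin P hP
      rw [ord_ratio_eq hE ht ha hc (c' := 1) (by rw [map_sub, Derivation.map_algebraMap, sub_zero, one_smul]),
        Finsupp.single_eq_of_ne hP]
      simp [FunFld.Place.ord]
  -- the divisor above
  have hex : ∀ Q : FunFld.Place k K, ∃ t c : K, Q.1 t = exp (-1) ∧
      KaehlerDifferential.D k K x = c • KaehlerDifferential.D k K t := fun Q => by
    obtain ⟨t, -, ht⟩ := exists_val_eq Q (-1)
    obtain ⟨c, hc⟩ := exists_ratio hK hg (D_ne_zero_param' hK ht) x
    exact ⟨t, c, ht, hc⟩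
  choose tQ cQ htQ hcQ using hex
  have hwd : ∀ (Q : FunFld.Place k K) (t c : K), Q.1 t = exp (-1) →
      KaehlerDifferential.D k K x = c • KaehlerDifferential.D k K t → Q.ord (cQ Q) = Q.ord c :=
    fun Q t c ht hc => ord_ratio_eq hK (htQ Q) ht (hcQ Q) hc
  obtain ⟨S, hS, hbad⟩ := Groth.Agent.H23Geom.exists_bad (K' := K) hE
  have hfs : (Function.support fun Q : FunFld.Place k K => Q.ord (cQ Q)).Finite := by
    refine (hS.union (finite_isOver (K' := K) hE Pinf)).subset fun Q hQ => ?_
    by_contra hno
    simp only [Set.mem_union, not_or] at hno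
    obtain ⟨P, hP⟩ := exists_below (K := E) hE.1 Q
    have he := (hbad Q hno.1 P hP).1
    obtain ⟨a, ha⟩ := hfin P (fun h => hno.2 (h ▸ hP))
    have hta : Q.1 (x - algebraMap k K a) = exp (-1) := by
      have := he (xE - algebraMap k E a)
      rw [pow_one, ha] at this
      exact this
    refine hQ ?_
    change Q.ord (cQ Q) = 0
    rw [hwd Q _ 1 hta (by rw [map_sub, Derivation.map_algebraMap, sub_zero, one_smul])]
    simp [FunFld.Place.ord]
  let C := Finsupp.ofSupportFinite _ hfs
  refine ⟨C, isCanonical_of_different (K := E) hE hK hCEcan C ?_, fun P t c ht hc => hwd P t c ht hc⟩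
  intro P Q e he t s γ ht hs hγ
  obtain ⟨c, hc, hcord⟩ := hCE P t ht
  have h1 := D_algebraMap (K' := K) hc
  rw [hγ, smul_smul] at h1
  change Q.ord (cQ Q) = _
  have hcne : c ≠ 0 := fun h => by
    rw [h, map_zero, zero_mul, zero_smul] at h1
    exact hx h1
  have hγne : γ ≠ 0 := fun h => by
    rw [h, mul_zero, zero_smul] at h1
    exact hx h1
  rw [hwd Q s _ hs h1, ord_mul Q (by simpa using hcne) hγne, IsOverWith.ord_eq he, hcord]
  ring

/-- The divisor of a differential, read through expansions. -/
theorem divDiff_eq {v : K} (hv : KaehlerDifferential.D k K v ≠ 0)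
    {Φ : FunFld.Place k K → (K →ₐ[k] LaurentSeries k)}
    (hΦ : ∀ P : FunFld.Place k K, LocRes.IsExpansionAt P.1 (Φ P)) :
    ∃ C : FunFld.Divisor k K, FunFld.IsCanonical k K C ∧
      ∀ u : K, u ≠ 0 → (∀ P, LocRes.ordDiff (Φ P) u v = (FunFld.div k u + C) P) ∧
        FunFld.divDiff Φ u v = FunFld.div k u + C := by
  obtain ⟨C, hC, hCP⟩ := exists_canonical_dx hK hv
  refine ⟨C, hC, fun u hu => ?_⟩
  have h : ∀ P, LocRes.ordDiff (Φ P) u v = (FunFld.div k u + C) P := fun P => by
    obtain ⟨t, -, ht⟩ := exists_val_eq P (-1)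
    obtain ⟨c, hc⟩ := exists_ratio hK (Groth.Agent.H23Geom.isGeometric_of_perfectField hK)
      (D_ne_zero_param' hK ht) v
    rw [ordDiff_eq (hΦ P) ht u hc, ord_mul P hu (ratio_ne_zero hv hc), Finsupp.add_apply, div_apply hK,
      hCP P t c ht hc]
  refine ⟨h, ?_⟩
  have hfun : (fun P : FunFld.Place k K => LocRes.ordDiff (Φ P) u v) = ⇑(FunFld.div k u + C) := funext h
  have hfin : (Function.support fun P : FunFld.Place k K => LocRes.ordDiff (Φ P) u v).Finite := by
    rw [hfun]; exact Finsupp.finite_support _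
  rw [FunFld.divDiff, dif_pos hfin]
  exact Finsupp.ext h

/-- A Hasse derivative computes the ratio of differentials. -/
theorem D_eq_hasseD_smul {t : K} {H : K →ₐ[k] PowerSeries K} (hH : LocRes.IsHasseFamily t H) (v : K) :
    KaehlerDifferential.D k K v = LocRes.hasseD H 1 v • KaehlerDifferential.D k K t := by
  have hDt := Groth.Agent.H23Proj.D_ne_zero_of_isHasseFamily hH
  obtain ⟨c, hc⟩ := exists_ratio hK (Groth.Agent.H23Geom.isGeometric_of_perfectField hK) hDt v
  obtain ⟨δ, hδ⟩ := Groth.Agent.H23Proj.exists_derivation H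
    (Algebra.ofId K (PowerSeries K) |>.restrictScalars k |>.comp (AlgHom.id k K))
    hH.2 (fun z => by simp [PowerSeries.algebraMap_apply]) one_pos (fun j hj z => by
      obtain rfl : j = 0 := by omega
      simp [PowerSeries.algebraMap_apply, hH.2])
  have hδ' : ∀ z, δ z = LocRes.hasseD H 1 z := fun z => by
    rw [hδ z]; simp [PowerSeries.algebraMap_apply, PowerSeries.coeff_C]
  have h1 : δ v = c * δ t := by
    rw [← Derivation.liftKaehlerDifferential_comp_D δ v, hc, map_smul,
      Derivation.liftKaehlerDifferential_comp_D, smul_eq_mul]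
  rw [hδ', hδ', Groth.Agent.H23Proj.hasseD_one_self hH, mul_one] at h1
  rw [hc, h1]

end Groth.Agent.H23Diff
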