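import Mathlib
import Groth.Agent.H23Diff.Expansion

/-!
The coefficient field of an expansion over `k` is separable.
-/

set_option autoImplicit false
set_option linter.unusedSectionVars false
set_option linter.style.haveILetI false

namespace Groth.Agent.H23Diff

open WithZero Groth.Agent.H23FunFld

variable {k : Type*} {F : Type*} [Field k] [Field F] [Algebra k F]

/-- A derivation acting on coefficients. -/
noncomputable def coeffD (δ : Derivation k F F) (f : LaurentSeries F) : LaurentSeries F :=
  HahnSeries.map f δ.toLinearMap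

theorem coeffD_coeff (δ : Derivation k F F) (f : LaurentSeries F) (n : ℤ) :
    (coeffD δ f).coeff n = δ (f.coeff n) := rfl

theorem coeffD_mul (δ : Derivation k F F) (f g : LaurentSeries F) :
    coeffD δ (f * g) = f * coeffD δ g + g * coeffD δ f := by
  refine HahnSeries.ext (funext fun n => ?_)
  have hs : ∀ h : LaurentSeries F, (coeffD δ h).support ⊆ h.support := fun h i hi h0 =>
    hi (by rw [coeffD_coeff, h0, map_zero])
  rw [coeffD_coeff, HahnSeries.coeff_add, mul_comm g, HahnSeries.coeff_mul,
    HahnSeries.coeff_mul_right' g.isPWO_support (hs g), HahnSeries.coeff_mul_left' f.isPWO_support (hs f),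
    map_sum, ← Finset.sum_add_distrib]
  refine Finset.sum_congr rfl fun ij _ => ?_
  rw [Derivation.leibniz, coeffD_coeff, coeffD_coeff, smul_eq_mul, smul_eq_mul]
  ring

theorem coeffD_add (δ : Derivation k F F) (f g : LaurentSeries F) :
    coeffD δ (f + g) = coeffD δ f + coeffD δ g :=
  HahnSeries.ext (funext fun n => by simp [coeffD_coeff])

theorem coeffD_C (δ : Derivation k F F) (a : F) : coeffD δ (HahnSeries.C a) = HahnSeries.C (δ a) :=
  HahnSeries.ext (funext fun n => by
    rw [coeffD_coeff]
    rcases eq_or_ne n 0 with rfl | hn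
    · simp
    · simp [hn])

variable {K : Type*} [Field K] [Algebra k K] {P : FunFld.Place k K} {Φ : K →ₐ[k] LaurentSeries F}

theorem isSeparable_coeff (hK : FunFld.IsFunctionField k K) (hg : FunFld.IsGeometric k K)
    (hΦ : LocRes.IsExpansionAt P.1 Φ) [FiniteDimensional k F] : Algebra.IsSeparable k F := by
  obtain ⟨t, ht⟩ := hΦ.2.2
  suffices hzero : ∀ δ : Derivation k F F, δ = 0 by
    haveI : Algebra.FormallyUnramified k F := ⟨subsingleton_of_forall_eq 0 fun w => by
      refine (Module.forall_dual_apply_eq_zero_iff F w).1 fun L => ?_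
      obtain ⟨L', hL'⟩ : ∃ δ, (KaehlerDifferential.linearMapEquivDerivation k F) L = δ := ⟨_, rfl⟩
      have h0 : L = 0 := (KaehlerDifferential.linearMapEquivDerivation k F).injective (by
        rw [hL', hzero L', map_zero])
      rw [h0, LinearMap.zero_apply]⟩
    exact Algebra.FormallyUnramified.isSeparable k F
  intro δ
  let _i := Φ.toRingHom.toAlgebra
  have hk : ∀ c : k, coeffD δ (Φ (algebraMap k K c)) = 0 := fun c => by
    rw [LocRes.map_algebraMap, coeffD_C, Derivation.map_algebraMap, map_zero]
  let Δ : Derivation k K (LaurentSeries F) :=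
    Derivation.mk'
      { toFun := fun z => coeffD δ (Φ z)
        map_add' := fun a b => by rw [map_add, coeffD_add]
        map_smul' := fun c a => by
          rw [RingHom.id_apply, Algebra.smul_def, map_mul, coeffD_mul, hk, mul_zero, add_zero,
            LocRes.map_algebraMap, HahnSeries.C_mul_eq_smul, algebraMap_smul] }
      (fun a b => by
        change coeffD δ (Φ (a * b)) = Φ a * coeffD δ (Φ b) + Φ b * coeffD δ (Φ a)
        rw [map_mul, coeffD_mul])
  have _t : IsScalarTower k K (LaurentSeries F) := LocRes.isScalarTower_exp Φ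
  have hrel : ∀ z : K, coeffD δ (Φ z) * LocRes.D F (Φ t) = coeffD δ (Φ t) * LocRes.D F (Φ z) := by
    intro z
    obtain ⟨c, hc⟩ := exists_ratio hK hg (D_ne_zero_param hΦ ht) z
    have h1 := congrArg Δ.liftKaehlerDifferential hc
    rw [map_smul, Derivation.liftKaehlerDifferential_comp_D, Derivation.liftKaehlerDifferential_comp_D] at h1
    change coeffD δ (Φ z) = Φ c * coeffD δ (Φ t) at h1
    rw [h1, D_exp_eq Φ hc]; ring
  have hv1 := val_D_param hΦ ht
  have htv : Valued.v (coeffD δ (Φ t)) ≤ exp (-1 : ℤ) := by
    rw [LaurentSeries.valuation_le_iff_coeff_lt_eq_zero]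
    intro n hn
    rw [coeffD_coeff, LaurentSeries.coeff_zero_of_lt_valuation F (D := 1) ((hΦ.1 t).trans ht).le hn, map_zero]
  refine Derivation.ext fun a => ?_
  obtain ⟨z, hz, hza⟩ := hΦ.2.1 a
  have h1 : Valued.v (coeffD δ (Φ z)) ≤ exp (-1 : ℤ) := by
    have h2 := congrArg Valued.v (hrel z)
    rw [map_mul, map_mul, hv1, mul_one] at h2
    rw [h2]
    exact (mul_le_of_le_one_right zero_le (val_D_le ((hΦ.1 z).trans_le hz))).trans htv
  have h3 := LaurentSeries.coeff_zero_of_lt_valuation F (n := 0) (D := 1) h1 zero_lt_one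
  rw [coeffD_coeff, hza] at h3
  exact h3

end Groth.Agent.H23Diff
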