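import Mathlib
import Groth.Agent.H23Diff.Expansion

/-!
The Taylor homomorphism of Laurent series and uniqueness of Hasse families.
-/

set_option autoImplicit false
set_option linter.unusedSectionVars false
set_option linter.style.haveILetI false

namespace Groth.Agent.H23Diff

variable {F : Type*} [Field F]

theorem hasseDeriv_mul (n : ℕ) (f g : LaurentSeries F) :
    LaurentSeries.hasseDeriv F n (f * g) =
      ∑ pq ∈ Finset.HasAntidiagonal.antidiagonal n, LaurentSeries.hasseDeriv F pq.1 f * LaurentSeries.hasseDeriv F pq.2 g := by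
  refine HahnSeries.ext (funext fun m => ?_)
  rw [LaurentSeries.hasseDeriv_coeff, HahnSeries.coeff_mul, HahnSeries.coeff_sum, Finset.smul_sum]
  set S := Finset.antidiagonal f.isPWO_support g.isPWO_support (m + n) with hS
  have hR : ∀ pq ∈ Finset.HasAntidiagonal.antidiagonal n,
      (LaurentSeries.hasseDeriv F pq.1 f * LaurentSeries.hasseDeriv F pq.2 g).coeff m =
        ∑ ij ∈ S, (Ring.choose ij.1 pq.1 * Ring.choose ij.2 pq.2) • (f.coeff ij.1 * g.coeff ij.2) := by
    intro pq hpq
    rw [Finset.HasAntidiagonal.mem_antidiagonal] at hpq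
    rw [HahnSeries.coeff_mul]
    refine Finset.sum_bij_ne_zero (fun ij _ _ => (ij.1 + (pq.1 : ℤ), ij.2 + (pq.2 : ℤ))) ?_ ?_ ?_ ?_
    · intro ij hij hne
      rw [LaurentSeries.hasseDeriv_coeff, LaurentSeries.hasseDeriv_coeff] at hne
      rw [Finset.mem_antidiagonal] at hij
      rw [hS, Finset.mem_antidiagonal]
      refine ⟨fun h0 => hne ?_, fun h0 => hne ?_, ?_⟩
      · rw [show f.coeff (ij.1 + (pq.1 : ℤ)) = 0 from h0, smul_zero, zero_mul]
      · rw [show g.coeff (ij.2 + (pq.2 : ℤ)) = 0 from h0, smul_zero, mul_zero]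
      · have := hij.2.2; simp only; omega
    · intro a _ _ b _ _ hab
      simp only [Prod.mk.injEq] at hab
      exact Prod.ext (by omega) (by omega)
    · intro ij hij hne
      rw [hS, Finset.mem_antidiagonal] at hij
      have hne' : ((LaurentSeries.hasseDeriv F pq.1 f).coeff (ij.1 - pq.1)) *
          ((LaurentSeries.hasseDeriv F pq.2 g).coeff (ij.2 - pq.2)) ≠ 0 := by
        rwa [LaurentSeries.hasseDeriv_coeff, LaurentSeries.hasseDeriv_coeff, sub_add_cancel, sub_add_cancel,
          smul_mul_smul_comm]
      refine ⟨(ij.1 - pq.1, ij.2 - pq.2), ?_, hne', by simp⟩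
      rw [Finset.mem_antidiagonal]
      exact ⟨left_ne_zero_of_mul hne', right_ne_zero_of_mul hne', by have := hij.2.2; simp only; omega⟩
    · intro ij _ _
      rw [LaurentSeries.hasseDeriv_coeff, LaurentSeries.hasseDeriv_coeff, smul_mul_smul_comm]
  rw [Finset.sum_congr rfl hR, Finset.sum_comm]
  refine Finset.sum_congr rfl fun ij hij => ?_
  rw [hS, Finset.mem_antidiagonal] at hij
  rw [← Finset.sum_smul, ← Ring.add_choose_eq n (Commute.all _ _), hij.2.2]

theorem hasseDeriv_C (n : ℕ) (hn : n ≠ 0) (a : F) : LaurentSeries.hasseDeriv F n (HahnSeries.C a) = 0 := by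
  rw [HahnSeries.C_apply, LaurentSeries.hasseDeriv_single, Ring.choose_zero_pos _ (Nat.pos_of_ne_zero hn), zero_smul, map_zero]

/-- `f ↦ ∑ₙ f^{(n)} Tⁿ`. -/
noncomputable def taylor : LaurentSeries F →+* PowerSeries (LaurentSeries F) where
  toFun f := PowerSeries.mk fun n => LaurentSeries.hasseDeriv F n f
  map_one' := by
    refine PowerSeries.ext fun n => ?_
    rw [PowerSeries.coeff_mk, PowerSeries.coeff_one]
    rcases eq_or_ne n 0 with rfl | hn
    · simp
    · rw [if_neg hn, ← map_one (HahnSeries.C : F →+* LaurentSeries F), hasseDeriv_C n hn]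
  map_mul' f g := by
    refine PowerSeries.ext fun n => ?_
    rw [PowerSeries.coeff_mk, PowerSeries.coeff_mul, hasseDeriv_mul]
    simp only [PowerSeries.coeff_mk]
  map_zero' := PowerSeries.ext fun n => by simp
  map_add' f g := PowerSeries.ext fun n => by simp

theorem coeff_taylor (f : LaurentSeries F) (n : ℕ) :
    PowerSeries.coeff n (taylor f) = LaurentSeries.hasseDeriv F n f := by
  simp [taylor]

theorem taylor_X : taylor (HahnSeries.single (1 : ℤ) (1 : F)) =
    PowerSeries.C (HahnSeries.single (1 : ℤ) (1 : F)) + PowerSeries.X := by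
  refine PowerSeries.ext fun n => ?_
  rw [coeff_taylor, map_add, PowerSeries.coeff_C, PowerSeries.coeff_X, LaurentSeries.hasseDeriv_single]
  have hc : Ring.choose (1 : ℤ) n = ((Nat.choose 1 n : ℕ) : ℤ) := by
    rw [← Ring.choose_natCast (R := ℤ) 1 n, Nat.cast_one]
  rcases n with _ | _ | n
  · simp
  · simp [hc]
  · simp [hc, Nat.choose_eq_zero_of_lt]

/-- Two lifts agreeing on constants terms and on a separating element agree. -/
theorem lift_unique {k K L : Type*} [Field k] [Field K] [Field L] [Algebra k K] {t : K}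
    [Algebra.IsSeparable (IntermediateField.adjoin k ({t} : Set K)) K]
    (A B : K →+* PowerSeries L) (hk : ∀ c : k, A (algebraMap k K c) = B (algebraMap k K c)) (ht : A t = B t)
    (h0 : ∀ z, PowerSeries.constantCoeff (A z) = PowerSeries.constantCoeff (B z)) : A = B := by
  refine RingHom.ext fun z => ?_
  set E := IntermediateField.adjoin k ({t} : Set K)
  have hE : ∀ w ∈ E, A w = B w := by
    intro w hw
    induction hw using IntermediateField.adjoin_induction with
    | mem w hw => rw [Set.mem_singleton_iff.1 hw]; exact ht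
    | algebraMap c => exact hk c
    | add a b _ _ ha hb => rw [map_add, map_add, ha, hb]
    | inv a _ ha =>
      rcases eq_or_ne a 0 with rfl | ha0
      · simp
      have e1 : A a * A a⁻¹ = 1 := by rw [← map_mul, mul_inv_cancel₀ ha0, map_one]
      have e2 : A a * B a⁻¹ = 1 := by rw [ha, ← map_mul, mul_inv_cancel₀ ha0, map_one]
      exact mul_left_cancel₀ (left_ne_zero_of_mul_eq_one e1) (e1.trans e2.symm)
    | mul a b _ _ ha hb => rw [map_mul, map_mul, ha, hb]
  set g := minpoly E z
  set f := g.map (B.comp (algebraMap E K))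
  have hAE : A.comp (algebraMap E K) = B.comp (algebraMap E K) := RingHom.ext fun w => hE _ w.2
  have hB : f.eval (B z) = 0 := by
    rw [Polynomial.eval_map, ← Polynomial.hom_eval₂, ← Polynomial.aeval_def, minpoly.aeval, map_zero]
  have hA : f.eval (A z) = 0 := by
    rw [Polynomial.eval_map, ← hAE, ← Polynomial.hom_eval₂, ← Polynomial.aeval_def, minpoly.aeval, map_zero]
  obtain ⟨q, hq⟩ := Polynomial.binomExpansion f (B z) (A z - B z)
  rw [add_sub_cancel, hA, hB, zero_add] at hq
  have h1 : (A z - B z) * (f.derivative.eval (B z) + q * (A z - B z)) = 0 := by rw [hq]; ring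
  rcases mul_eq_zero.1 h1 with h | h
  · exact sub_eq_zero.1 h
  exfalso
  have h2 := congrArg PowerSeries.constantCoeff h
  rw [map_add, map_mul, map_sub PowerSeries.constantCoeff, h0, sub_self, mul_zero, add_zero, map_zero,
    Polynomial.derivative_map, Polynomial.eval_map, ← Polynomial.hom_eval₂, ← Polynomial.aeval_def] at h2
  exact (Algebra.IsSeparable.isSeparable E z).aeval_derivative_ne_zero (minpoly.aeval E z)
    ((map_eq_zero (PowerSeries.constantCoeff.comp B)).1 h2)

end Groth.Agent.H23Diff
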